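import Mathlib

/-!
# An inverting automorphism of a group of odd order and class two

If coprime automorphisms act on `E`, trivially on the central kernel of `wt` and with trivial norm
on the image of `wt`, then some involutory automorphism fixes exactly that kernel and commutes with
all automorphisms that commute with the action.
-/

set_option autoImplicit false
set_option linter.unusedSectionVars false

namespace CfsgLib.OddCorrespondence

open scoped commutatorElement

variable {E A : Type*} [Group E] [CommGroup A]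

/-- The central-kernel data. -/
structure BaerData (wt : E →* A) (k : ℕ) : Prop where
  central : ∀ z u : E, wt z = 1 → z * u = u * z
  half : ∀ u : E, u ^ (2 * k) = u

variable {wt : E →* A} {k : ℕ}

theorem BaerData.wt_comm (_D : BaerData wt k) (u v : E) : wt ⁅u, v⁆ = 1 := by
  rw [map_commutatorElement, commutatorElement_eq_one_iff_commute]
  exact Commute.all _ _

theorem BaerData.comm_mul_left (D : BaerData wt k) (u v w : E) : ⁅u * v, w⁆ = ⁅u, w⁆ * ⁅v, w⁆ := by
  have h : ⁅u * v, w⁆ = u * ⁅v, w⁆ * u⁻¹ * ⁅u, w⁆ := by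
    simp only [commutatorElement_def]; group
  rw [h, ← D.central _ u (D.wt_comm v w), mul_assoc ⁅v, w⁆, mul_inv_cancel, mul_one,
    D.central _ _ (D.wt_comm v w)]

theorem BaerData.comm_mul_right (D : BaerData wt k) (u v w : E) : ⁅u, v * w⁆ = ⁅u, v⁆ * ⁅u, w⁆ := by
  rw [← commutatorElement_inv (v * w) u, D.comm_mul_left, mul_inv_rev, commutatorElement_inv,
    commutatorElement_inv, D.central _ _ (D.wt_comm u w)]

theorem BaerData.comm_central_left (D : BaerData wt k) {z : E} (hz : wt z = 1) (u : E) :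
    ⁅z, u⁆ = 1 :=
  commutatorElement_eq_one_iff_commute.2 (D.central z u hz)

theorem BaerData.comm_central_right (D : BaerData wt k) {z : E} (hz : wt z = 1) (u : E) :
    ⁅u, z⁆ = 1 :=
  commutatorElement_eq_one_iff_commute.2 (D.central z u hz).symm

theorem BaerData.wt_comm_pow (D : BaerData wt k) (u v : E) : wt (⁅u, v⁆ ^ k) = 1 := by
  rw [map_pow, D.wt_comm, one_pow]

/-- The underlying type of the commutative group attached to the data. -/
def Baer (_D : BaerData wt k) : Type _ := E

namespace Baer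

variable {D : BaerData wt k}

/-- The element of the new group. -/
def mk (D : BaerData wt k) (u : E) : Baer D := u

/-- The element of the old group. -/
def val (a : Baer D) : E := a

theorem val_mk (u : E) : (mk D u).val = u := rfl
theorem ext' {a b : Baer D} (h : a.val = b.val) : a = b := h

instance : Mul (Baer D) := ⟨fun a b => mk D (a.val * b.val * ⁅b.val, a.val⁆ ^ k)⟩
instance : One (Baer D) := ⟨mk D 1⟩
instance : Inv (Baer D) := ⟨fun a => mk D a.val⁻¹⟩

theorem val_mul (a b : Baer D) : (a * b).val = a.val * b.val * ⁅b.val, a.val⁆ ^ k := rfl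
theorem val_one : (1 : Baer D).val = 1 := rfl
theorem val_inv (a : Baer D) : a⁻¹.val = a.val⁻¹ := rfl

instance instCommGroup : CommGroup (Baer D) where
  mul_assoc a b c := by
    refine ext' ?_
    simp only [val_mul]
    set x := a.val; set y := b.val; set z := c.val
    have e1 : ⁅z, x * y * ⁅y, x⁆ ^ k⁆ = ⁅z, x⁆ * ⁅z, y⁆ := by
      rw [D.comm_mul_right, D.comm_mul_right, D.comm_central_right (D.wt_comm_pow y x), mul_one]
    have e2 : ⁅y * z * ⁅z, y⁆ ^ k, x⁆ = ⁅y, x⁆ * ⁅z, x⁆ := by
      rw [D.comm_mul_left, D.comm_mul_left, D.comm_central_left (D.wt_comm_pow z y), mul_one]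
    have c1 := fun w => D.central (⁅y, x⁆ ^ k) w (D.wt_comm_pow y x)
    have c2 := fun w => D.central (⁅z, y⁆ ^ k) w (D.wt_comm_pow z y)
    rw [e1, e2, Commute.mul_pow (D.central _ _ (D.wt_comm z x)),
      Commute.mul_pow (D.central _ _ (D.wt_comm y x))]
    calc x * y * ⁅y, x⁆ ^ k * z * (⁅z, x⁆ ^ k * ⁅z, y⁆ ^ k)
        = x * y * (⁅y, x⁆ ^ k * z) * (⁅z, y⁆ ^ k * ⁅z, x⁆ ^ k) := by
          rw [c2 (⁅z, x⁆ ^ k)]; simp only [mul_assoc]
      _ = x * y * z * (⁅y, x⁆ ^ k * ⁅z, y⁆ ^ k) * ⁅z, x⁆ ^ k := by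
          rw [c1 z]; simp only [mul_assoc]
      _ = x * (y * z * ⁅z, y⁆ ^ k) * (⁅y, x⁆ ^ k * ⁅z, x⁆ ^ k) := by
          rw [c1 (⁅z, y⁆ ^ k)]; simp only [mul_assoc]
  one_mul a := ext' (by simp [val_mul, val_one])
  mul_one a := ext' (by simp [val_mul, val_one])
  inv_mul_cancel a := by
    refine ext' ?_
    rw [val_mul, val_inv, val_one,
      commutatorElement_eq_one_iff_commute.2 (Commute.refl a.val).inv_right, one_pow, mul_one,
      inv_mul_cancel]
  mul_comm a b := by
    refine ext' ?_
    simp only [val_mul]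
    set x := a.val; set y := b.val
    have hc : x * y = y * x * ⁅x, y⁆ := by
      rw [← D.central _ _ (D.wt_comm x y), commutatorElement_def]; group
    rw [hc, mul_assoc (y * x), ← commutatorElement_inv x y, inv_pow]
    congr 1
    rw [mul_inv_eq_iff_eq_mul, ← pow_add, ← two_mul]
    exact (D.half _).symm

theorem mk_mul_central (u : E) {z : E} (hz : wt z = 1) : mk D (u * z) = mk D u * mk D z := by
  refine ext' ?_
  rw [val_mul, val_mk, val_mk, val_mk, D.comm_central_left hz, one_pow, mul_one]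

theorem mk_pow (u : E) (m : ℕ) : mk D (u ^ m) = mk D u ^ m := by
  induction m with
  | zero => rw [pow_zero, pow_zero]; rfl
  | succ m ih =>
    refine ext' ?_
    rw [pow_succ (mk D u), ← ih, val_mul, val_mk, val_mk, val_mk,
      commutatorElement_eq_one_iff_commute.2 ((Commute.refl u).pow_right m), one_pow, mul_one,
      pow_succ]

/-- An automorphism of the group gives one of the new group. -/
def map (D : BaerData wt k) (β : MulAut E) : Baer D →* Baer D where
  toFun a := mk D (β a.val)
  map_one' := ext' (map_one β)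
  map_mul' a b := ext' (by simp only [val_mk, val_mul, map_mul, map_pow, map_commutatorElement])

/-- The weight is still a homomorphism. -/
def wtHom (D : BaerData wt k) : Baer D →* A where
  toFun a := wt a.val
  map_one' := map_one wt
  map_mul' a b := by rw [val_mul, map_mul, map_mul, D.wt_comm_pow, mul_one]

end Baer

open Baer in
/-- The inverting automorphism. -/
theorem exists_inverting [Finite E] {ι : Type*} [Fintype ι] (act : ι → MulAut E)
    (hodd : Odd (Nat.card E)) (hcop : (Nat.card ι).Coprime (Nat.card E))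
    (hz : ∀ z u, wt z = 1 → z * u = u * z) (hfix : ∀ i z, wt z = 1 → act i z = z)
    (hprod : ∀ u, ∏ i, wt (act i u) = 1) :
    ∃ τ : MulAut E, (∀ u, τ (τ u) = u) ∧ (∀ u, τ u = u ↔ wt u = 1) ∧
      ∀ β : MulAut E, (∀ z, wt z = 1 → β z = z) → (∀ i u, β (act i u) = act i (β u)) →
        ∀ u, β (τ u) = τ (β u) := by
  obtain ⟨j, hj⟩ := hodd
  have hhalf : ∀ u : E, u ^ (2 * (j + 1)) = u := fun u => by
    rw [show 2 * (j + 1) = Nat.card E + 1 by omega, pow_succ, pow_card_eq_one', one_mul]
  let D : BaerData wt (j + 1) := ⟨hz, hhalf⟩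
  obtain ⟨l, hl⟩ : ∃ l : ℕ, ∀ u : E, u ^ (Nat.card ι * l) = u := by
    rcases Nat.lt_or_ge 1 (Nat.card E) with h1 | h1
    · obtain ⟨l, -, hl⟩ := Nat.exists_mul_mod_eq_one_of_coprime hcop h1
      exact ⟨l, fun u => by rw [← pow_mod_natCard, hl, pow_one]⟩
    · haveI : Subsingleton E := Finite.card_le_one_iff_subsingleton.1 h1
      exact ⟨0, fun u => Subsingleton.elim _ _⟩
  let n : Baer D →* Baer D := ∏ i, Baer.map D (act i)
  have hn : ∀ a, wt (n a).val = 1 := fun a => by
    show wtHom D ((∏ i, Baer.map D (act i)) a) = 1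
    rw [MonoidHom.finsetProd_apply, map_prod]
    exact hprod a.val
  let π : E → E := fun u => (n (mk D u) ^ l).val
  have hπ1 : ∀ u, wt (π u) = 1 := fun u => by
    show wtHom D (n (mk D u) ^ l) = 1
    rw [map_pow]; exact (congrArg (· ^ l) (hn _)).trans (one_pow l)
  have hπz : ∀ z, wt z = 1 → π z = z := fun z hwz => by
    have h : n (mk D z) = mk D (z ^ Nat.card ι) := by
      show (∏ i, Baer.map D (act i)) (mk D z) = _
      rw [MonoidHom.finsetProd_apply, Finset.prod_congr rfl fun i _ =>
        show Baer.map D (act i) (mk D z) = mk D z from congrArg (mk D) (hfix i z hwz),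
        Finset.prod_const, Finset.card_univ, mk_pow, Nat.card_eq_fintype_card]
    show (n (mk D z) ^ l).val = z
    rw [h, ← mk_pow, val_mk, ← pow_mul, hl]
  have hπmul : ∀ u v, π (u * v) = π u * π v * ⁅u, v⁆ ^ (j + 1) := fun u v => by
    have hc : wt (⁅u, v⁆ ^ (j + 1)) = 1 := D.wt_comm_pow u v
    have h : mk D (u * v) = mk D u * mk D v * mk D (⁅u, v⁆ ^ (j + 1)) := by
      refine ext' ?_
      rw [val_mul, val_mul]
      simp only [val_mk]
      rw [D.comm_central_left hc, one_pow, mul_one, ← commutatorElement_inv u v, inv_pow,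
        inv_mul_cancel_right]
    have hπc := hπz _ hc
    show (n (mk D (u * v)) ^ l).val = _
    rw [h, map_mul, map_mul, mul_pow, mul_pow, val_mul, val_mul,
      D.comm_central_right (u := (n (mk D v) ^ l).val) (hπ1 u), one_pow, mul_one,
      D.comm_central_left (u := (n (mk D u) ^ l).val * (n (mk D v) ^ l).val)
        (show wt (n (mk D (⁅u, v⁆ ^ (j + 1))) ^ l).val = 1 from hπ1 _), one_pow, mul_one]
    exact congrArg (fun x => π u * π v * x) hπc
  let T : E → E := fun u => π u ^ 2 * u⁻¹
  have hTmul : ∀ u v, T (u * v) = T u * T v := fun u v => by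
    have c1 := D.central _ (u⁻¹) (show wt (π v ^ 2) = 1 by rw [map_pow, hπ1, one_pow])
    have c2 : Commute (π u * π v) (⁅u, v⁆ ^ (j + 1)) :=
      D.central _ _ (by rw [map_mul, hπ1, hπ1, one_mul])
    have e : ⁅u, v⁆ * (v⁻¹ * u⁻¹) = u⁻¹ * v⁻¹ := by
      rw [D.central ⁅u, v⁆ (v⁻¹ * u⁻¹) (D.wt_comm u v), commutatorElement_def]
      group
    show π (u * v) ^ 2 * (u * v)⁻¹ = π u ^ 2 * u⁻¹ * (π v ^ 2 * v⁻¹)
    rw [hπmul, c2.mul_pow, Commute.mul_pow (D.central _ _ (hπ1 u)), ← pow_mul,
      mul_comm (j + 1) 2, hhalf, mul_inv_rev, mul_assoc _ ⁅u, v⁆, e, mul_assoc (π u ^ 2),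
      mul_assoc (π u ^ 2), ← mul_assoc (π v ^ 2), c1]
    simp only [mul_assoc]
  have hTz : ∀ z, wt z = 1 → T z = z := fun z hwz => by
    show π z ^ 2 * z⁻¹ = z
    rw [hπz z hwz, sq, mul_inv_cancel_right]
  have hTT : ∀ u, T (T u) = u := fun u => by
    have hw : wt (π u ^ 2) = 1 := by rw [map_pow, hπ1, one_pow]
    have h1 : π (u⁻¹) = (π u)⁻¹ := by
      refine eq_inv_of_mul_eq_one_right ?_
      have := hπmul u u⁻¹
      rw [mul_inv_cancel, hπz 1 (map_one wt),
        commutatorElement_eq_one_iff_commute.2 (Commute.refl u).inv_right, one_pow, mul_one] at this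
      exact this.symm
    have h2 : π (T u) = π u := by
      show π (π u ^ 2 * u⁻¹) = π u
      rw [hπmul, hπz _ hw, h1, D.comm_central_left hw, one_pow, mul_one, sq, mul_inv_cancel_right]
    show π (T u) ^ 2 * (π u ^ 2 * u⁻¹)⁻¹ = u
    rw [h2, mul_inv_rev, inv_inv, ← mul_assoc, D.central _ u hw, mul_inv_cancel_right]
  refine ⟨{ toFun := T, invFun := T, left_inv := hTT, right_inv := hTT, map_mul' := hTmul },
    hTT, fun u => ⟨fun h => ?_, hTz u⟩, fun β hβz hβa u => ?_⟩
  · have h' : π u ^ 2 = u ^ 2 := by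
      rw [sq u]; exact mul_inv_eq_iff_eq_mul.1 h
    rw [← hhalf u, pow_mul, ← h', ← pow_mul, map_pow, hπ1, one_pow]
  · have h : Baer.map D β (n (mk D u)) = n (mk D (β u)) := by
      show Baer.map D β ((∏ i, Baer.map D (act i)) (mk D u)) = (∏ i, Baer.map D (act i)) _
      rw [MonoidHom.finsetProd_apply, MonoidHom.finsetProd_apply, map_prod]
      exact Finset.prod_congr rfl fun i _ => congrArg (mk D) (hβa i u)
    have h' : n (mk D (β u)) = n (mk D u) := h.symm.trans (congrArg (mk D) (hβz _ (hn _)))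
    show β (π u ^ 2 * u⁻¹) = π (β u) ^ 2 * (β u)⁻¹
    rw [map_mul, map_pow, map_inv, hβz _ (hπ1 u)]
    show _ = (n (mk D (β u)) ^ l).val ^ 2 * _
    rw [h']

end CfsgLib.OddCorrespondence
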