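import Cfsg.Agent.Glauberman.RelativeInvariant
import Cfsg.Agent.CharactersDeep.Clifford

/-!
# The Clifford correspondence for multiplicities between subgroups

For an inertia group `T` of `θ ∈ Irr L` in `G`: characters of `T` and of `G` over `θ` correspond, and
multiplicities in subgroups of `T` over `θ` are unchanged.
-/

set_option autoImplicit false
set_option linter.style.haveILetI false
set_option linter.unusedSectionVars false

namespace CfsgLib.OddCorrespondence

open Cfsg CfsgLib.RelGlauberman CfsgLib.Characters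
open CfsgLib.OddOrderChar (conjBy conjBy_apply)

universe u

variable {Γ : Type u} [Group Γ] [Finite Γ]

noncomputable local instance instFintypeSub (H : Subgroup Γ) : Fintype H := Fintype.ofFinite H
noncomputable local instance instFintypeIrr (H : Subgroup Γ) : Fintype (Cfsg.IrrCharacter H) :=
  Fintype.ofFinite _

/-- `T` is the inertia group of `θ` in `G`. -/
structure IsInertia (G L T : Subgroup Γ) (θ : L → ℂ) : Prop where
  le : T ≤ G
  base : L ≤ T
  normal : ∀ g ∈ G, ∀ l ∈ L, g * l * g⁻¹ ∈ L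
  mem_iff : ∀ g ∈ G, g ∈ T ↔ ∀ l l' : L, (l' : Γ) = g * l * g⁻¹ → θ l' = θ l

/-- An inertia group exists. -/
theorem exists_inertia {G L : Subgroup Γ} (hLG : L ≤ G) (hn : ∀ g ∈ G, ∀ l ∈ L, g * l * g⁻¹ ∈ L)
    (θ : IrrCharacter L) : ∃ T : Subgroup Γ, IsInertia G L T (θ : L → ℂ) := by
  let T : Subgroup Γ :=
    { carrier := {g | g ∈ G ∧ ∀ l l' : L, (l' : Γ) = g * l * g⁻¹ → (θ : L → ℂ) l' = (θ : L → ℂ) l}
      one_mem' := ⟨one_mem G, fun l l' h => congrArg _ (Subtype.ext (by simpa using h))⟩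
      mul_mem' := by
        rintro a b ⟨ha, ha'⟩ ⟨hb, hb'⟩
        refine ⟨mul_mem ha hb, fun l l' h => ?_⟩
        refine (ha' ⟨b * l * b⁻¹, hn b hb l l.2⟩ l' ?_).trans (hb' l _ rfl)
        rw [h]; group
      inv_mem' := by
        rintro a ⟨ha, ha'⟩
        refine ⟨inv_mem ha, fun l l' h => (ha' l' l ?_).symm⟩
        rw [h]; group }
  refine ⟨T, ⟨fun g hg => hg.1, fun g hg => ⟨hLG hg, fun l l' h => ?_⟩, hn,
    fun g hg => ⟨fun h => h.2, fun h => ⟨hg, h⟩⟩⟩⟩
  have h1 := Characters.isClassFunction_of_isIrr θ.2 l ⟨g, hg⟩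
  rwa [show (⟨g, hg⟩ : L) * l * (⟨g, hg⟩ : L)⁻¹ = l' from Subtype.ext h.symm] at h1

/-- Restriction to the intersection with a subgroup is an inertia group there. -/
theorem IsInertia.inf {G L T : Subgroup Γ} {θ : L → ℂ} (hT : IsInertia G L T θ) {H : Subgroup Γ}
    (hHG : H ≤ G) (hLH : L ≤ H) : IsInertia H L (T ⊓ H) θ where
  le := inf_le_right
  base := le_inf hT.base hLH
  normal := fun g hg => hT.normal g (hHG hg)
  mem_iff := fun g hg => ⟨fun h => (hT.mem_iff g (hHG hg)).1 h.1,
    fun h => ⟨(hT.mem_iff g (hHG hg)).2 h, hg⟩⟩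

/-- A character above another one. -/
theorem exists_over {G T : Subgroup Γ} (hTG : T ≤ G) (τ : IrrCharacter T) :
    ∃ χ : IrrCharacter G, multNat hTG χ τ ≠ 0 := by
  by_contra hno
  push Not at hno
  have hind : ∀ χ : IrrCharacter G, Cfsg.classInner
      (Cfsg.indFun (T.subgroupOf G) fun t => (τ : T → ℂ) ⟨(t : G), t.2⟩) (χ : G → ℂ) = 0 := by
    intro χ
    haveI : Fintype (T.subgroupOf G) := Fintype.ofFinite _
    let e : T.subgroupOf G ≃* T := Subgroup.subgroupOfEquivOfLe hTG
    rw [classInner_indFun _ _ (isClassFunction_of_isIrr χ.2), classInner_conj_symm]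
    have h := CharactersDeep.Clifford.classInner_comp_equiv e
      (fun t : T => (χ : G → ℂ) (Subgroup.inclusion hTG t)) (τ : T → ℂ)
    rw [← multRes_eq_classInner, multNat_spec, hno χ, Nat.cast_zero] at h
    show (starRingEnd ℂ) (Cfsg.classInner (fun x : T.subgroupOf G => (χ : G → ℂ) x)
      fun x => (τ : T → ℂ) ⟨(x : G), x.2⟩) = 0
    rw [show Cfsg.classInner (fun x : T.subgroupOf G => (χ : G → ℂ) x)
      (fun x => (τ : T → ℂ) ⟨(x : G), x.2⟩) = 0 from h, map_zero]
  refine irr_one_ne_zero τ.2 ?_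
  have h1 := congrFun (classFunction_expansion (isClassFunction_indFun (T.subgroupOf G)
    fun t => (τ : T → ℂ) ⟨(t : G), t.2⟩)) 1
  rw [indFun_one, Finset.sum_apply, Finset.sum_eq_zero fun χ _ => by simp [hind χ]] at h1
  exact (mul_eq_zero.1 h1).resolve_left (Nat.cast_ne_zero.2 Subgroup.index_ne_zero_of_finite)

/-- Some constituent below. -/
theorem exists_below {G T : Subgroup Γ} (hTG : T ≤ G) (χ : IrrCharacter G) :
    ∃ τ : IrrCharacter T, multNat hTG χ τ ≠ 0 := by
  by_contra hno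
  push Not at hno
  have h := congrFun (res_expansion hTG χ) 1
  simp [hno] at h
  exact irr_one_ne_zero χ.2 h

/-- Constituents of constituents. -/
theorem multNat_ne_zero_trans {G T L : Subgroup Γ} (hTG : T ≤ G) (hLT : L ≤ T)
    {χ : IrrCharacter G} {τ : IrrCharacter T} {θ : IrrCharacter L} (h₁ : multNat hTG χ τ ≠ 0)
    (h₂ : multNat hLT τ θ ≠ 0) : multNat (hLT.trans hTG) χ θ ≠ 0 :=
  Glauberman.RelativeInvariant.multNat_trans_ne_zero hLT hTG χ τ θ h₁ h₂

/-- A summand of a restriction in two stages. -/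
theorem exists_intermediate {G T L : Subgroup Γ} (hTG : T ≤ G) (hLT : L ≤ T)
    {χ : IrrCharacter G} {θ : IrrCharacter L} (h : multNat (hLT.trans hTG) χ θ ≠ 0) :
    ∃ τ : IrrCharacter T, multNat hTG χ τ ≠ 0 ∧ multNat hLT τ θ ≠ 0 := by
  rw [multNat_trans hLT hTG] at h
  obtain ⟨τ, -, hτ⟩ := Finset.exists_ne_zero_of_sum_ne_zero h
  exact ⟨τ, left_ne_zero_of_mul hτ, right_ne_zero_of_mul hτ⟩

variable {G L T : Subgroup Γ} {θ : IrrCharacter L}

theorem subgroupOf_normal (hT : IsInertia G L T (θ : L → ℂ)) : (L.subgroupOf G).Normal :=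
  ⟨fun n hn g => hT.normal g g.2 n hn⟩

open Classical in
/-- The core of the correspondence: a unique constituent over `θ`, of multiplicity one, inducing. -/
theorem IsInertia.aux (hT : IsInertia G L T (θ : L → ℂ)) (χ : IrrCharacter G)
    (h : multNat (hT.base.trans hT.le) χ θ ≠ 0) :
    ∃ τ : IrrCharacter T, multNat hT.base τ θ ≠ 0 ∧ multNat hT.le χ τ = 1 ∧
      multNat hT.base τ θ = multNat (hT.base.trans hT.le) χ θ ∧
      (∀ τ' : IrrCharacter T, multNat hT.le χ τ' ≠ 0 → multNat hT.base τ' θ ≠ 0 → τ' = τ) ∧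
      (χ : G → ℂ) = Cfsg.indFun (T.subgroupOf G) (fun t => (τ : T → ℂ) ⟨(t : G), t.2⟩) := by
  haveI := subgroupOf_normal hT
  haveI : Fintype (L.subgroupOf G) := Fintype.ofFinite _
  haveI : Fintype (T.subgroupOf G) := Fintype.ofFinite _
  let eL : L.subgroupOf G ≃* L := Subgroup.subgroupOfEquivOfLe (hT.base.trans hT.le)
  let eT : T.subgroupOf G ≃* T := Subgroup.subgroupOfEquivOfLe hT.le
  have hres : Cfsg.classInner (fun n : L.subgroupOf G => (χ : G → ℂ) n)
      (fun n => (θ : L → ℂ) (eL n)) = (multNat (hT.base.trans hT.le) χ θ : ℂ) := by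
    rw [← multNat_spec, multRes_eq_classInner, ← CharactersDeep.Clifford.classInner_comp_equiv eL]
    rfl
  obtain ⟨ψ, e, he0, hψ, hind, hψL, hψe⟩ := CharactersDeep.Clifford.exists_induced_from_inertia
    (L.subgroupOf G) (Characters.isIrr_comp eL.toMonoidHom eL.surjective θ.2) (T.subgroupOf G)
    (fun g => by
      rw [Subgroup.mem_subgroupOf, hT.mem_iff g g.2]
      constructor
      · intro h'
        funext n
        rw [conjBy_apply]
        exact h' (eL n) (eL _) rfl
      · intro h' l l' hl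
        have h1 := congrFun h' (eL.symm l)
        rw [conjBy_apply] at h1
        refine Eq.trans ?_ (h1.trans (congrArg (θ : L → ℂ) (eL.apply_symm_apply l)))
        exact congrArg (θ : L → ℂ) (Subtype.ext hl))
    (fun n hn => hT.base hn) χ.2
    (hres.trans_ne (Nat.cast_ne_zero.2 h))
  have he : e = multNat (hT.base.trans hT.le) χ θ := Nat.cast_injective (R := ℂ) (hψe.symm.trans hres)
  let τ : IrrCharacter T :=
    ⟨_, Characters.isIrr_comp eT.symm.toMonoidHom eT.symm.surjective hψ⟩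
  have hτv : ∀ t : T.subgroupOf G, (τ : T → ℂ) (eT t) = ψ t := fun t =>
    congrArg ψ (eT.symm_apply_apply t)
  have hτL : multNat hT.base τ θ = e := by
    apply multNat_unique
    rw [multRes_eq_classInner, show (fun l : L => (τ : T → ℂ) (Subgroup.inclusion hT.base l)) =
      (e : ℂ) • (θ : L → ℂ) from funext fun l => by
        have h1 := congrFun hψL (eL.symm l)
        simp only [Pi.smul_apply, MulEquiv.coe_toMonoidHom, MulEquiv.apply_symm_apply] at h1
        rw [Pi.smul_apply, ← h1]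
        exact hτv ⟨⟨(l : Γ), hT.le (hT.base l.2)⟩, hT.base l.2⟩,
      classInner_smul_left, classInner_isIrr_self θ.2, mul_one]
  have hone : multNat hT.le χ τ = 1 := by
    apply multNat_unique
    rw [multRes_eq_classInner, ← CharactersDeep.Clifford.classInner_comp_equiv eT,
      show (fun x : T.subgroupOf G => (χ : G → ℂ) (Subgroup.inclusion hT.le (eT x))) =
        fun x : T.subgroupOf G => (χ : G → ℂ) x from rfl,
      show (fun x => (τ : T → ℂ) (eT x)) = ψ from funext hτv, classInner_conj_symm,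
      ← classInner_indFun _ _ (isClassFunction_of_isIrr χ.2), hind, classInner_isIrr_self χ.2]
    simp
  refine ⟨τ, by rw [hτL]; omega, hone, hτL.trans he, fun τ' h1 h2 => ?_, ?_⟩
  · by_contra hne
    have hsum := multNat_trans hT.base hT.le χ θ
    have hle : ∑ η ∈ {τ', τ}, multNat hT.le χ η * multNat hT.base η θ ≤
        ∑ η, multNat hT.le χ η * multNat hT.base η θ :=
      Finset.sum_le_sum_of_subset (Finset.subset_univ _)
    rw [Finset.sum_pair hne, hone, hτL, one_mul, ← hsum, ← he] at hle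
    exact Nat.mul_ne_zero h1 h2 (by omega)
  · rw [← hind]
    exact congrArg (Cfsg.indFun (T.subgroupOf G)) (funext fun t => (hτv t).symm)

/-- Below a character over `θ` there is exactly one constituent over `θ`. -/
theorem IsInertia.exists_below (hT : IsInertia G L T (θ : L → ℂ)) (χ : IrrCharacter G)
    (h : multNat (hT.base.trans hT.le) χ θ ≠ 0) :
    ∃ τ : IrrCharacter T, multNat hT.base τ θ ≠ 0 ∧ multNat hT.le χ τ = 1 ∧
      ∀ τ' : IrrCharacter T, multNat hT.le χ τ' ≠ 0 → multNat hT.base τ' θ ≠ 0 → τ' = τ :=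
  let ⟨τ, h1, h2, _, h4, _⟩ := hT.aux χ h
  ⟨τ, h1, h2, h4⟩

/-- Above a character over `θ` there is exactly one character. -/
theorem IsInertia.unique_above (hT : IsInertia G L T (θ : L → ℂ)) {χ χ' : IrrCharacter G}
    {τ : IrrCharacter T} (hτ : multNat hT.base τ θ ≠ 0) (h : multNat hT.le χ τ ≠ 0)
    (h' : multNat hT.le χ' τ ≠ 0) : χ = χ' := by
  obtain ⟨τ₁, -, -, -, hu₁, hi₁⟩ := hT.aux χ (multNat_ne_zero_trans _ _ h hτ)
  obtain ⟨τ₂, -, -, -, hu₂, hi₂⟩ := hT.aux χ' (multNat_ne_zero_trans _ _ h' hτ)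
  apply Subtype.ext
  rw [hi₁, hi₂, ← hu₁ τ h hτ, ← hu₂ τ h' hτ]

/-- Multiplicities in a subgroup of the inertia group, over `θ`. -/
theorem IsInertia.mult_eq (hT : IsInertia G L T (θ : L → ℂ)) {χ : IrrCharacter G}
    {τ : IrrCharacter T} (hτ : multNat hT.base τ θ ≠ 0) (h : multNat hT.le χ τ ≠ 0)
    {D : Subgroup Γ} (hLD : L ≤ D) (hDT : D ≤ T) {ξ : IrrCharacter D}
    (hξ : multNat hLD ξ θ ≠ 0) : multNat (hDT.trans hT.le) χ ξ = multNat hDT τ ξ := by
  obtain ⟨τ₁, hτ₁, hone, hu⟩ := hT.exists_below χ (multNat_ne_zero_trans _ _ h hτ)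
  obtain rfl := hu τ h hτ
  rw [multNat_trans hDT hT.le, Finset.sum_eq_single τ, hone, one_mul]
  · intro η _ hne
    by_contra h0
    exact hne (hu η (left_ne_zero_of_mul h0)
      (multNat_ne_zero_trans hDT hLD (right_ne_zero_of_mul h0) hξ))
  · simp

end CfsgLib.OddCorrespondence
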