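import Cfsg.Agent.Characters.Classes
import Cfsg.Agent.OddOrder.BG3.NoFixedPoint
import Mathlib.LinearAlgebra.Prod
import Mathlib.LinearAlgebra.Determinant

/-!
# Algebra maps attached to isotypic restrictions and to invariant characters
-/

set_option autoImplicit false
set_option linter.style.haveILetI false
set_option linter.unusedSectionVars false

namespace CfsgLib.OddCorrespondence

open Cfsg CfsgLib.Characters

universe u

variable {N : Type u} [Group N] [Fintype N] {d : ℕ}

/-- An irreducible representation spans all operators. -/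
theorem span_eq_top (σ : Representation ℂ N (Fin d → ℂ)) [σ.IsIrreducible] :
    Submodule.span ℂ (Set.range σ) = ⊤ := by
  haveI := nontrivial_of_isIrreducible σ
  refine OddOrder.span_range_eq_top_of_irreducible σ fun U hU => ?_
  exact (IsSimpleOrder.eq_bot_or_eq_top (⟨U, fun g x hx => hU g x hx⟩ : Subrepresentation σ)).imp
    (congrArg Subrepresentation.toSubmodule) (congrArg Subrepresentation.toSubmodule)

/-- Algebra maps are determined on an irreducible group of operators. -/
theorem algHom_ext (σ : Representation ℂ N (Fin d → ℂ)) [σ.IsIrreducible] {A : Type*} [Semiring A]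
    [Algebra ℂ A] {f g : Module.End ℂ (Fin d → ℂ) →ₐ[ℂ] A} (h : ∀ n, f (σ n) = g (σ n)) :
    f = g := by
  refine AlgHom.toLinearMap_injective (LinearMap.ext_on_range (span_eq_top σ) fun n => ?_)
  exact h n

/-- An invariant character gives a conjugating operator. -/
theorem exists_conj (σ : Representation ℂ N (Fin d → ℂ)) (β : N →* N)
    (h : ∀ n, σ.character (β n) = σ.character n) :
    ∃ T : (Fin d → ℂ) ≃ₗ[ℂ] (Fin d → ℂ), ∀ n, T.conjAlgEquiv ℂ (σ n) = σ (β n) := by
  obtain ⟨φ⟩ := equiv_of_char_eq σ (σ.comp β) (funext fun n => (h n).symm)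
  refine ⟨φ.toLinearEquiv, fun n => LinearMap.ext fun x => ?_⟩
  have h1 := equiv_map φ n (φ.toLinearEquiv.symm x)
  rw [LinearEquiv.apply_symm_apply] at h1
  exact h1

/-- A representation whose character is a multiple of an irreducible one factors through the
algebra of all operators. -/
theorem exists_algHom_isotypic (σ : Representation ℂ N (Fin d → ℂ)) :
    ∀ (e : ℕ), 0 < e → ∀ {k : ℕ} (ρ : Representation ℂ N (Fin k → ℂ)),
      ρ.character = (e : ℂ) • σ.character →
      ∃ Φ : Module.End ℂ (Fin d → ℂ) →ₐ[ℂ] Module.End ℂ (Fin k → ℂ),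
        Function.Injective Φ ∧ ∀ n, Φ (σ n) = ρ n := by
  intro e he
  induction e with
  | zero => omega
  | succ e ih =>
    intro k ρ hρ
    rcases Nat.eq_zero_or_pos e with rfl | he'
    · obtain ⟨φ⟩ := equiv_of_char_eq σ ρ (by rw [hρ]; simp)
      refine ⟨(φ.toLinearEquiv.conjAlgEquiv ℂ).toAlgHom, AlgEquiv.injective _, fun n =>
        LinearMap.ext fun x => ?_⟩
      have h1 := equiv_map φ n (φ.toLinearEquiv.symm x)
      rw [LinearEquiv.apply_symm_apply] at h1
      exact h1
    · obtain ⟨k', ρ', hρ'⟩ := isCharacter_natCast_smul (isCharacter_character σ) e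
      obtain ⟨Φ', -, hΦ'⟩ := ih he' ρ' hρ'
      obtain ⟨φ⟩ := equiv_of_char_eq (σ.prod ρ') ρ (by
        rw [char_prod, hρ', hρ, Nat.cast_succ, add_smul, one_smul, add_comm])
      let P : Module.End ℂ (Fin d → ℂ) →ₐ[ℂ] Module.End ℂ ((Fin d → ℂ) × (Fin k' → ℂ)) :=
        (LinearMap.prodMapAlgHom ℂ (Fin d → ℂ) (Fin k' → ℂ)).comp
          (AlgHom.prod (AlgHom.id ℂ _) Φ')
      refine ⟨(φ.toLinearEquiv.conjAlgEquiv ℂ).toAlgHom.comp P, ?_, fun n =>
        LinearMap.ext fun x => ?_⟩
      · refine (φ.toLinearEquiv.conjAlgEquiv ℂ).injective.comp fun X Y hXY => LinearMap.ext fun v => ?_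
        exact congrArg Prod.fst (LinearMap.congr_fun hXY (v, 0))
      · have h1 := equiv_map φ n (φ.toLinearEquiv.symm x)
        rw [LinearEquiv.apply_symm_apply] at h1
        rw [← h1]
        show φ.toLinearEquiv (P (σ n) (φ.toLinearEquiv.symm x)) = _
        congr 1
        refine Prod.ext rfl ?_
        show Φ' (σ n) _ = ρ' n _
        rw [hΦ']

end CfsgLib.OddCorrespondence
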