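import Cfsg.Agent.OddCorrespondence.Baer
import Cfsg.Agent.OddCorrespondence.Lift
import Cfsg.Agent.Characters.Burnside

/-!
# The group of weight operators and its inverting operator

`σ` is irreducible on `K`, a multiple of `σ₀` on the normal subgroup `N`, and `K ⧸ N` is abelian.
The operators of determinant one on which `K` acts by linear characters trivial on `N` form a
finite group `E` spanning, with `σ N`, all of `σ K`. Coprime automorphisms with trivial norm on
`K ⧸ N` single out an involution of `E` fixing the scalars and an operator inducing it.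
-/

set_option autoImplicit false
set_option linter.style.haveILetI false
set_option linter.unusedSectionVars false

namespace CfsgLib.OddCorrespondence

open Cfsg CfsgLib.Characters

universe u

/-- The operators. -/
abbrev Op (d : ℕ) : Type := Module.End ℂ (Fin d → ℂ)

variable {K : Type u} [Group K] [Fintype K] {d : ℕ}

/-- `u` has weight `f`. -/
def IsWeight (σ : Representation ℂ K (Fin d → ℂ)) (u : Module.End ℂ (Fin d → ℂ))
    (f : K →* ℂˣ) : Prop :=
  ∀ k, σ k * u = (f k : ℂ) • (u * σ k)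

variable (σ : Representation ℂ K (Fin d → ℂ)) (N : Subgroup K)

/-- The weight operators of determinant one. -/
def weightGroup : Subgroup (Op d)ˣ where
  carrier := {u | LinearMap.det (u : Module.End ℂ (Fin d → ℂ)) = 1 ∧
    ∃ f : K →* ℂˣ, (∀ n ∈ N, f n = 1) ∧ IsWeight σ (u : Module.End ℂ (Fin d → ℂ)) f}
  one_mem' := ⟨map_one _, 1, fun _ _ => rfl, fun k => by simp⟩
  mul_mem' := by
    rintro a b ⟨ha, f, hf, hwa⟩ ⟨hb, g, hg, hwb⟩
    refine ⟨by rw [Units.val_mul, map_mul, ha, hb, one_mul], f * g,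
      fun n hn => by rw [MonoidHom.mul_apply, hf n hn, hg n hn, one_mul], fun k => ?_⟩
    rw [Units.val_mul, ← mul_assoc, hwa k, smul_mul_assoc, mul_assoc, hwb k, mul_smul_comm,
      smul_smul, mul_assoc, MonoidHom.mul_apply, Units.val_mul]
  inv_mem' := by
    rintro a ⟨ha, f, hf, hwa⟩
    refine ⟨?_, f⁻¹, fun n hn => by rw [MonoidHom.inv_apply, hf n hn, inv_one], fun k => ?_⟩
    · have h : LinearMap.det ((a⁻¹ : (Op d)ˣ) : Op d) * LinearMap.det
          (a : Module.End ℂ (Fin d → ℂ)) = 1 := by rw [← map_mul, Units.inv_mul, map_one]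
      rwa [ha, mul_one] at h
    · have h2 : σ k = (f k : ℂ) •
          ((a : Module.End ℂ (Fin d → ℂ)) * (σ k * ((a⁻¹ : (Op d)ˣ) : Op d))) := by
        have h := congrArg (· * ((a⁻¹ : (Op d)ˣ) : Op d)) (hwa k)
        simpa [mul_assoc] using h
      rw [MonoidHom.inv_apply, Units.val_inv_eq_inv_val]
      conv_rhs => rw [h2, mul_smul_comm, ← mul_assoc, Units.inv_mul, one_mul, smul_smul,
        inv_mul_cancel₀ (Units.ne_zero _), one_smul]

variable {σ N}

theorem weight_trivial {u : weightGroup σ N} {n : K} (hn : n ∈ N) :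
    Commute (σ n) ((u : (Op d)ˣ) : Op d) := by
  obtain ⟨-, f, hf, hw⟩ := u.2
  show _ = _
  rw [hw n, hf n hn, Units.val_one, one_smul]

theorem weight_unique [σ.IsIrreducible] {u : (Op d)ˣ} {f g : K →* ℂˣ}
    (hf : IsWeight σ (u : Module.End ℂ (Fin d → ℂ)) f)
    (hg : IsWeight σ (u : Module.End ℂ (Fin d → ℂ)) g) : f = g := by
  haveI := nontrivial_of_isIrreducible σ
  refine MonoidHom.ext fun k => Units.ext ?_
  have hne : (u : Module.End ℂ (Fin d → ℂ)) * σ k ≠ 0 :=
    (u.isUnit.mul ⟨⟨σ k, σ k⁻¹, by rw [← map_mul, mul_inv_cancel, map_one],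
      by rw [← map_mul, inv_mul_cancel, map_one]⟩, rfl⟩).ne_zero
  exact smul_left_injective ℂ hne ((hf k).symm.trans (hg k))

/-- The weight, as a homomorphism. -/
noncomputable def weightHom [σ.IsIrreducible] : weightGroup σ N →* (K →* ℂˣ) where
  toFun u := u.2.2.choose
  map_one' := weight_unique (σ := σ) (weightGroup σ N).one_mem.2.choose_spec.2 fun k => by simp
  map_mul' u v := by
    refine weight_unique (σ := σ) (u * v).2.2.choose_spec.2 fun k => ?_
    rw [Subgroup.coe_mul, Units.val_mul, ← mul_assoc, u.2.2.choose_spec.2 k, smul_mul_assoc,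
      mul_assoc, v.2.2.choose_spec.2 k, mul_smul_comm, smul_smul, mul_assoc,
      MonoidHom.mul_apply, Units.val_mul]

theorem weightHom_spec [σ.IsIrreducible] (u : weightGroup σ N) :
    IsWeight σ ((u : (Op d)ˣ) : Op d) (weightHom u) :=
  u.2.2.choose_spec.2

theorem weightHom_trivial [σ.IsIrreducible] (u : weightGroup σ N) {n : K} (hn : n ∈ N) :
    weightHom u n = 1 :=
  u.2.2.choose_spec.1 n hn

theorem d_pos [σ.IsIrreducible] : 0 < d := by
  have h := finrank_pos_of_isIrreducible σ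
  rwa [Module.finrank_fin_fun] at h

theorem weightHom_eq_one_iff [σ.IsIrreducible] (u : weightGroup σ N) :
    weightHom u = 1 ↔ ∃ c : ℂ, ((u : (Op d)ˣ) : Op d) = c • 1 := by
  haveI := nontrivial_of_isIrreducible σ
  constructor
  · intro h
    refine OddOrder.exists_scalar_of_commute_all fun a => ?_
    have : LinearMap.mulLeft ℂ ((u : (Op d)ˣ) : Op d) =
        LinearMap.mulRight ℂ ((u : (Op d)ˣ) : Op d) := by
      refine LinearMap.ext_on_range (span_eq_top σ) fun k => ?_
      have := weightHom_spec u k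
      rw [h, MonoidHom.one_apply, Units.val_one, one_smul] at this
      exact this.symm
    exact LinearMap.congr_fun this a
  · rintro ⟨c, hc⟩
    refine weight_unique (σ := σ) (weightHom_spec u) fun k => ?_
    rw [hc]; simp

theorem weightHom_pow_card [σ.IsIrreducible] (u : weightGroup σ N) :
    weightHom (u ^ Nat.card K) = 1 := by
  refine MonoidHom.ext fun k => ?_
  rw [map_pow, MonoidHom.pow_apply, ← map_pow, pow_card_eq_one', map_one, MonoidHom.one_apply]

theorem det_smul_one (c : ℂ) :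
    LinearMap.det (c • (1 : Module.End ℂ (Fin d → ℂ))) = c ^ d := by
  rw [LinearMap.det_smul, map_one, mul_one, Module.finrank_fin_fun]

theorem weight_pow_eq_one [σ.IsIrreducible] (u : weightGroup σ N) :
    u ^ (Nat.card K * d) = 1 := by
  obtain ⟨c, hc⟩ := (weightHom_eq_one_iff _).1 (weightHom_pow_card u)
  have h := (u ^ Nat.card K).2.1
  rw [hc, det_smul_one] at h
  refine Subtype.ext (Units.ext ?_)
  rw [pow_mul, SubgroupClass.coe_pow, Units.val_pow_eq_pow_val, hc, smul_pow, one_pow, h, one_smul]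
  rfl

theorem finite_weightGroup [σ.IsIrreducible] : Finite (weightGroup σ N) := by
  haveI : Finite (K →* ℂˣ) := by
    haveI : NeZero (Nat.card K) := ⟨Nat.card_pos.ne'⟩
    refine Finite.of_injective (fun f : K →* ℂˣ => fun k => (⟨f k, ?_⟩ :
      rootsOfUnity (Nat.card K) ℂ)) fun f g h => MonoidHom.ext fun k =>
        congrArg Subtype.val (congrFun h k)
    rw [mem_rootsOfUnity, ← map_pow, pow_card_eq_one', map_one]
  haveI : Nontrivial (Fin d → ℂ) := nontrivial_of_isIrreducible σ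
  haveI : Finite (weightHom (σ := σ) (N := N)).ker := by
    haveI : NeZero d := ⟨(d_pos (σ := σ)).ne'⟩
    have hc := fun u : (weightHom (σ := σ) (N := N)).ker => (weightHom_eq_one_iff u.1).1 u.2
    have hcd : ∀ u, (hc u).choose ^ d = 1 := fun u => by
      rw [← det_smul_one, ← (hc u).choose_spec]
      exact u.1.2.1
    refine Finite.of_injective (fun u => (⟨Units.mk0 (hc u).choose (fun h0 => ?_), ?_⟩ :
      rootsOfUnity d ℂ)) fun u v h => Subtype.ext (Subtype.ext (Units.ext ?_))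
    · have := hcd u
      rw [h0, zero_pow (NeZero.ne d)] at this
      exact zero_ne_one this
    · rw [mem_rootsOfUnity]; exact Units.ext (hcd u)
    · rw [(hc u).choose_spec, (hc v).choose_spec]
      exact congrArg (· • (1 : Module.End ℂ (Fin d → ℂ)))
        (congrArg (fun x : rootsOfUnity d ℂ => ((x : ℂˣ) : ℂ)) h)
  haveI : Finite (weightGroup σ N ⧸ (weightHom (σ := σ) (N := N)).ker) :=
    Finite.of_equiv _ (QuotientGroup.quotientKerEquivRange weightHom).symm.toEquiv
  exact Finite.of_equiv _ (Subgroup.groupEquivQuotientProdSubgroup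
    (s := (weightHom (σ := σ) (N := N)).ker)).symm

theorem card_coprime [σ.IsIrreducible] {m : ℕ} (h : (Nat.card K).Coprime m) :
    (Nat.card (weightGroup σ N)).Coprime m := by
  haveI := finite_weightGroup (σ := σ) (N := N)
  refine Nat.coprime_of_dvd fun q hq hqE hqm => ?_
  haveI : Fact q.Prime := ⟨hq⟩
  obtain ⟨u, hu⟩ := exists_prime_orderOf_dvd_card' q hqE
  have hd : d ∣ Nat.card K := by simpa [Module.finrank_fin_fun] using finrank_dvd_card σ
  have h1 : q ∣ Nat.card K := by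
    rcases hq.dvd_mul.1 (hu ▸ orderOf_dvd_of_pow_eq_one (weight_pow_eq_one u)) with h1 | h1
    · exact h1
    · exact h1.trans hd
  exact hq.not_dvd_one (h ▸ Nat.dvd_gcd h1 hqm)

/-- An invertible weight vector can be normalised. -/
theorem exists_normalised [σ.IsIrreducible] (X : (Op d)ˣ) {f : K →* ℂˣ}
    (hf : ∀ n ∈ N, f n = 1) (hX : IsWeight σ (X : Module.End ℂ (Fin d → ℂ)) f) :
    ∃ c : ℂ, ∃ u : weightGroup σ N,
      (X : Module.End ℂ (Fin d → ℂ)) = c • ((u : (Op d)ˣ) : Op d) := by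
  obtain ⟨b, hb⟩ := IsAlgClosed.exists_pow_nat_eq (LinearMap.det
    (X : Module.End ℂ (Fin d → ℂ)))⁻¹ (d_pos (σ := σ))
  have hdet : LinearMap.det (X : Module.End ℂ (Fin d → ℂ)) ≠ 0 :=
    (X.isUnit.map LinearMap.det).ne_zero
  have hb0 : b ≠ 0 := fun h0 => by
    rw [h0, zero_pow (d_pos (σ := σ)).ne'] at hb
    exact inv_ne_zero hdet hb.symm
  refine ⟨b⁻¹, ⟨Units.mk0 b hb0 • X, ?_, f, hf, fun k => ?_⟩, ?_⟩
  · show LinearMap.det (b • (X : Module.End ℂ (Fin d → ℂ))) = 1
    rw [LinearMap.det_smul, Module.finrank_fin_fun, hb, inv_mul_cancel₀ hdet]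
  · show σ k * (b • (X : Module.End ℂ (Fin d → ℂ))) = _ • ((b • _) * σ k)
    rw [mul_smul_comm, hX k, smul_mul_assoc, smul_comm]
  · show _ = b⁻¹ • (b • (X : Module.End ℂ (Fin d → ℂ)))
    rw [inv_smul_smul₀ hb0]

/-- Conjugation by an element stabilising a character, on the operators. -/
theorem exists_autAlg (σ : Representation ℂ K (Fin d → ℂ)) [σ.IsIrreducible] (β : K →* K)
    (h : ∀ k, σ.character (β k) = σ.character k) :
    ∃ A : Module.End ℂ (Fin d → ℂ) ≃ₐ[ℂ] Module.End ℂ (Fin d → ℂ),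
      (∀ k, A (σ k) = σ (β k)) ∧ ∀ X, LinearMap.det (A X) = LinearMap.det X := by
  obtain ⟨T, hT⟩ := exists_conj σ β h
  exact ⟨T.conjAlgEquiv ℂ, hT, fun X => LinearMap.det_conj X T⟩

theorem algEquiv_ext (σ : Representation ℂ K (Fin d → ℂ)) [σ.IsIrreducible]
    {A B : Module.End ℂ (Fin d → ℂ) ≃ₐ[ℂ] Module.End ℂ (Fin d → ℂ)}
    (h : ∀ k, A (σ k) = B (σ k)) : A = B :=
  AlgEquiv.ext fun X => AlgHom.congr_fun (algHom_ext σ (f := A.toAlgHom) (g := B.toAlgHom) h) X

theorem det_of_autAlg [σ.IsIrreducible] (β : MulAut K)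
    (hχ : ∀ k, σ.character (β k) = σ.character k)
    {A : Module.End ℂ (Fin d → ℂ) ≃ₐ[ℂ] Module.End ℂ (Fin d → ℂ)}
    (hA : ∀ k, A (σ k) = σ (β k)) (X : Module.End ℂ (Fin d → ℂ)) :
    LinearMap.det (A X) = LinearMap.det X := by
  obtain ⟨B, hB, hBd⟩ := exists_autAlg σ β.toMonoidHom hχ
  rw [algEquiv_ext σ fun k => (hA k).trans (hB k).symm]
  exact hBd X

theorem weight_map [σ.IsIrreducible] (β : MulAut K) (hβ : ∀ k, β k ∈ N ↔ k ∈ N)
    (hχ : ∀ k, σ.character (β k) = σ.character k)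
    {A : Module.End ℂ (Fin d → ℂ) ≃ₐ[ℂ] Module.End ℂ (Fin d → ℂ)}
    (hA : ∀ k, A (σ k) = σ (β k)) (u : weightGroup σ N) :
    ∃ v : weightGroup σ N, ((v : (Op d)ˣ) : Op d) = A ((u : (Op d)ˣ) : Op d) ∧
      weightHom v = (weightHom u).comp β.symm.toMonoidHom := by
  have hw : IsWeight σ (A ((u : (Op d)ˣ) : Op d))
      ((weightHom u).comp β.symm.toMonoidHom) := fun k => by
    have h := congrArg A (weightHom_spec u (β.symm k))
    rwa [map_mul, map_smul, map_mul, hA, MulEquiv.apply_symm_apply] at h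
  let v : (Op d)ˣ := Units.map A.toAlgHom.toRingHom.toMonoidHom u.1
  refine ⟨⟨v, ?_, (weightHom u).comp β.symm.toMonoidHom, fun n hn => ?_, hw⟩, rfl,
    weight_unique (σ := σ) (weightHom_spec _) hw⟩
  · exact (det_of_autAlg β hχ hA _).trans u.2.1
  · exact weightHom_trivial u ((hβ _).1 (by show β (β.symm n) ∈ N; rwa [MulEquiv.apply_symm_apply]))

/-- The automorphism of the weight group given by an automorphism of `K`. -/
theorem exists_weightAut [σ.IsIrreducible] [Finite (weightGroup σ N)] (β : MulAut K)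
    (hβ : ∀ k, β k ∈ N ↔ k ∈ N) (hχ : ∀ k, σ.character (β k) = σ.character k)
    {A : Module.End ℂ (Fin d → ℂ) ≃ₐ[ℂ] Module.End ℂ (Fin d → ℂ)}
    (hA : ∀ k, A (σ k) = σ (β k)) :
    ∃ a : MulAut (weightGroup σ N), ∀ u, ((a u : (Op d)ˣ) : Op d) =
        A ((u : (Op d)ˣ) : Op d) ∧
      weightHom (a u) = (weightHom u).comp β.symm.toMonoidHom := by
  choose v hv hv' using weight_map β hβ hχ hA
  let F : weightGroup σ N →* weightGroup σ N :=
    { toFun := v
      map_one' := Subtype.ext (Units.ext (by rw [hv]; simp))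
      map_mul' := fun x y => Subtype.ext (Units.ext (by
        rw [hv, Subgroup.coe_mul, Units.val_mul, map_mul, Subgroup.coe_mul, Units.val_mul, hv,
          hv])) }
  have hinj : Function.Injective v := fun x y hxy => Subtype.ext (Units.ext (A.injective (by
    rw [← hv, ← hv, hxy])))
  exact ⟨MulEquiv.ofBijective F ⟨hinj, Finite.injective_iff_surjective.1 hinj⟩,
    fun u => ⟨hv u, hv' u⟩⟩

/-- `σ K` lies in the span of the products of `σ N` with the weight operators. -/
theorem mem_span_weight [σ.IsIrreducible] [N.Normal] (hcomm : ∀ a b : K, a * b * a⁻¹ * b⁻¹ ∈ N)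
    {d₀ : ℕ} (σ₀ : Representation ℂ N (Fin d₀ → ℂ)) [σ₀.IsIrreducible] {e : ℕ} (he : 0 < e)
    (hres : ∀ n : N, σ.character n = (e : ℂ) * σ₀.character n) (k : K) :
    σ k ∈ Submodule.span ℂ {x | ∃ n : N, ∃ u : weightGroup σ N,
      x = σ n * ((u : (Op d)ˣ) : Op d)} := by
  haveI := nontrivial_of_isIrreducible σ₀
  haveI : Fintype N := Fintype.ofFinite N
  obtain ⟨Φ, hΦi, hΦ⟩ := exists_algHom_isotypic σ₀ e he (σ.comp N.subtype) (funext fun n => hres n)
  have hΦ' : ∀ n : N, Φ (σ₀ n) = σ n := hΦ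
  have hinv : ∀ (x : K) (n : N), σ₀.character (MulAut.conjNormal x n) = σ₀.character n := by
    intro x n
    refine mul_left_cancel₀ (Nat.cast_ne_zero.2 he.ne' : (e : ℂ) ≠ 0) ?_
    rw [← hres, ← hres, MulAut.conjNormal_apply]
    exact Representation.char_conj σ n x
  choose T hT using fun x : K => exists_conj σ₀ (MulAut.conjNormal (H := N) x).toMonoidHom (hinv x)
  -- conjugation by `σ x` on the range of `Φ`
  have hconj : ∀ (x : K) (Y : Module.End ℂ (Fin d₀ → ℂ)),
      σ x * Φ Y * σ x⁻¹ = Φ ((T x).conjAlgEquiv ℂ Y) := by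
    intro x
    have h : ((LinearMap.mulLeft ℂ (σ x)).comp ((LinearMap.mulRight ℂ (σ x⁻¹)).comp Φ.toLinearMap))
        = Φ.toLinearMap.comp ((T x).conjAlgEquiv ℂ).toAlgHom.toLinearMap := by
      refine LinearMap.ext_on_range (span_eq_top σ₀) fun n => ?_
      show σ x * (Φ (σ₀ n) * σ x⁻¹) = Φ ((T x).conjAlgEquiv ℂ (σ₀ n))
      rw [hT, hΦ', hΦ', ← map_mul, ← map_mul, ← mul_assoc]
      rfl
    intro Y
    rw [mul_assoc]
    exact LinearMap.congr_fun h Y
  let a : Module.End ℂ (Fin d → ℂ) := Φ ((T k).symm : _ →ₗ[ℂ] _)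
  let b : Module.End ℂ (Fin d → ℂ) := Φ ((T k) : _ →ₗ[ℂ] _)
  have hba : b * a = 1 := by
    show Φ _ * Φ _ = 1
    rw [← map_mul, show ((T k) : (Fin d₀ → ℂ) →ₗ[ℂ] _) * ((T k).symm : _ →ₗ[ℂ] _) =
      (1 : Module.End ℂ (Fin d₀ → ℂ)) from LinearMap.ext fun v => (T k).apply_symm_apply v,
      map_one]
  have hab : a * b = 1 := by
    show Φ _ * Φ _ = 1
    rw [← map_mul, show ((T k).symm : (Fin d₀ → ℂ) →ₗ[ℂ] _) * ((T k) : _ →ₗ[ℂ] _) =
      (1 : Module.End ℂ (Fin d₀ → ℂ)) from LinearMap.ext fun v => (T k).symm_apply_apply v,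
      map_one]
  have hσ : ∀ x y : K, σ x * σ y = σ (x * y) := fun x y => (map_mul σ x y).symm
  let X : (Op d)ˣ := ⟨a * σ k, σ k⁻¹ * b,
    by rw [mul_assoc, ← mul_assoc (σ k), hσ, mul_inv_cancel, map_one, one_mul, hab],
    by rw [mul_assoc, ← mul_assoc b, hba, one_mul, hσ, inv_mul_cancel, map_one]⟩
  -- `X` centralises `σ N`
  have hXN : ∀ n : N, σ n * X = (X : Module.End ℂ (Fin d → ℂ)) * σ n := by
    intro n
    have h1 : a * σ (k * n * k⁻¹) = σ n * a := by
      have h := hconj k (σ₀ n)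
      rw [hΦ', hσ, hσ] at h
      rw [h, ← hΦ' n]
      show Φ _ * Φ _ = Φ _ * Φ _
      rw [← map_mul, ← map_mul]
      refine congrArg Φ (LinearMap.ext fun v => ?_)
      simp [LinearEquiv.conjAlgEquiv_apply]
    show σ n * (a * σ k) = a * σ k * σ n
    rw [← mul_assoc, ← h1, mul_assoc a, mul_assoc a (σ k), hσ, hσ, inv_mul_cancel_right]
  -- commutators with `σ x` are scalar
  have hscal : ∀ x : K, ∃ c : ℂ, σ x * X = c • ((X : Module.End ℂ (Fin d → ℂ)) * σ x) := by
    intro x
    set M := σ x * (X : Module.End ℂ (Fin d → ℂ)) * σ x⁻¹ *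
      ((X⁻¹ : (Op d)ˣ) : Op d) with hM
    obtain ⟨Y, hY⟩ : ∃ Y, M = Φ Y := by
      refine ⟨(T x).conjAlgEquiv ℂ ((T k).symm : _ →ₗ[ℂ] _) *
        σ₀ ⟨x * k * x⁻¹ * k⁻¹, hcomm x k⟩ * ((T k) : _ →ₗ[ℂ] _), ?_⟩
      rw [map_mul, map_mul, ← hconj, hΦ']
      show σ x * (a * σ k) * σ x⁻¹ * (σ k⁻¹ * b) = σ x * a * σ x⁻¹ * σ (x * k * x⁻¹ * k⁻¹) * b
      simp only [mul_assoc]
      congr 2
      simp only [← mul_assoc, hσ]
      congr 2
      group
    have hMN : ∀ n : N, σ n * M = M * σ n := by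
      intro n
      have hc1 : Commute (σ (n : K)) (X : Module.End ℂ (Fin d → ℂ)) := hXN n
      have hc2 : Commute (σ (n : K)) ((X⁻¹ : (Op d)ˣ) : Op d) := hc1.units_inv_right
      have hm : x⁻¹ * n * x ∈ N := by simpa using Subgroup.Normal.conj_mem ‹N.Normal› _ n.2 x⁻¹
      have hc3 : Commute (σ (n : K)) (σ x * (X : Module.End ℂ (Fin d → ℂ)) * σ x⁻¹) := by
        show _ = _
        have h := hXN ⟨_, hm⟩
        calc σ (n : K) * (σ x * X * σ x⁻¹)
            = σ x * (σ (x⁻¹ * n * x) * X) * σ x⁻¹ := by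
              simp only [← mul_assoc, hσ]; congr 3; group
          _ = σ x * (X * σ (x⁻¹ * n * x)) * σ x⁻¹ := by rw [h]
          _ = σ x * X * σ x⁻¹ * σ (n : K) := by
              simp only [mul_assoc, hσ]; congr 3; group
      exact hc3.mul_right hc2
    have hYc : ∀ Z, Y * Z = Z * Y := by
      have h : LinearMap.mulLeft ℂ Y = LinearMap.mulRight ℂ Y := by
        refine LinearMap.ext_on_range (span_eq_top σ₀) fun n => hΦi ?_
        show Φ (Y * σ₀ n) = Φ (σ₀ n * Y)
        rw [map_mul, map_mul, hΦ', ← hY, hMN n]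
      exact fun Z => LinearMap.congr_fun h Z
    obtain ⟨c, hc⟩ := OddOrder.exists_scalar_of_commute_all hYc
    refine ⟨c, ?_⟩
    have hMc : M = c • 1 := by rw [hY, hc, map_smul, map_one]
    calc σ x * X = M * X * σ x := by
          rw [hM, mul_assoc _ _ (X : Module.End ℂ (Fin d → ℂ)), Units.inv_mul, mul_one,
            mul_assoc _ _ (σ x), hσ, inv_mul_cancel, map_one, mul_one]
      _ = _ := by rw [hMc, smul_mul_assoc, one_mul, smul_mul_assoc]
  choose c hc using hscal
  haveI := nontrivial_of_isIrreducible σ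
  have hne : ∀ x : K, (X : Module.End ℂ (Fin d → ℂ)) * σ x ≠ 0 := fun x =>
    (X.isUnit.mul ⟨⟨σ x, σ x⁻¹, by rw [hσ, mul_inv_cancel, map_one],
      by rw [hσ, inv_mul_cancel, map_one]⟩, rfl⟩).ne_zero
  let f : K →* ℂ :=
    { toFun := c
      map_one' := smul_left_injective ℂ (hne 1) (by
        show c 1 • _ = (1 : ℂ) • _
        rw [← hc 1, one_smul, map_one, one_mul, mul_one])
      map_mul' := fun x y => smul_left_injective ℂ (hne (x * y)) (by
        show c (x * y) • _ = (c x * c y) • _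
        rw [← hc, ← hσ x y, mul_assoc, hc, mul_smul_comm, ← mul_assoc, hc, smul_mul_assoc,
          smul_smul, mul_comm (c y), mul_assoc]) }
  obtain ⟨b', u, hu⟩ := exists_normalised (σ := σ) (N := N) X (f := f.toHomUnits) (fun n hn => by
    refine Units.ext (smul_left_injective ℂ (hne n) ?_)
    show c n • _ = (1 : ℂ) • _
    rw [← hc, one_smul]
    exact hXN ⟨n, hn⟩) hc
  have hk : σ k = b' • (b * ((u : (Op d)ˣ) : Op d)) := by
    rw [← mul_smul_comm, ← hu]
    show σ k = b * (a * σ k)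
    rw [← mul_assoc, hba, one_mul]
  rw [hk]
  refine Submodule.smul_mem _ _ ?_
  have : ∀ Y : Module.End ℂ (Fin d₀ → ℂ), Φ Y * ((u : (Op d)ˣ) : Op d) ∈
      Submodule.span ℂ {x | ∃ n : N, ∃ u : weightGroup σ N,
        x = σ n * ((u : (Op d)ˣ) : Op d)} := by
    intro Y
    have hY : Y ∈ Submodule.span ℂ (Set.range σ₀) := by rw [span_eq_top σ₀]; exact Submodule.mem_top
    induction hY using Submodule.span_induction with
    | mem z hz =>
      obtain ⟨n, rfl⟩ := hz
      exact Submodule.subset_span ⟨n, u, by rw [hΦ']⟩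
    | zero => rw [map_zero, zero_mul]; exact Submodule.zero_mem _
    | add z w _ _ h1 h2 => rw [map_add, add_mul]; exact Submodule.add_mem _ h1 h2
    | smul r z _ h1 => rw [map_smul, smul_mul_assoc]; exact Submodule.smul_mem _ _ h1
  exact this _

/-- A subspace invariant under `σ N` and the weight operators is invariant under `σ K`. -/
theorem invariant_of_span {P : Submodule ℂ (Fin d → ℂ)} (hPn : ∀ n ∈ N, ∀ v ∈ P, σ n v ∈ P)
    (hPu : ∀ u : weightGroup σ N, ∀ v ∈ P, ((u : (Op d)ˣ) : Op d) v ∈ P)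
    (hspan : ∀ k, σ k ∈ Submodule.span ℂ {x | ∃ n : N, ∃ u : weightGroup σ N,
      x = σ n * ((u : (Op d)ˣ) : Op d)}) (k : K) :
    ∀ v ∈ P, σ k v ∈ P := by
  intro v hv
  have key : ∀ X ∈ Submodule.span ℂ {x | ∃ n : N, ∃ u : weightGroup σ N,
      x = σ n * ((u : (Op d)ˣ) : Op d)}, X v ∈ P := by
    intro X hX
    induction hX using Submodule.span_induction with
    | mem z hz =>
      obtain ⟨n, u, rfl⟩ := hz
      exact hPn n n.2 _ (hPu u v hv)
    | zero => exact P.zero_mem
    | add z w _ _ h1 h2 => exact P.add_mem h1 h2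
    | smul r z _ h1 => exact P.smul_mem r h1
  exact key _ (hspan k)

/-- The involution of the weight group and the operator inducing it. -/
theorem exists_involution [σ.IsIrreducible] [N.Normal]
    (hcomm : ∀ a b : K, a * b * a⁻¹ * b⁻¹ ∈ N)
    {d₀ : ℕ} (σ₀ : Representation ℂ N (Fin d₀ → ℂ)) [σ₀.IsIrreducible] {e : ℕ} (he : 0 < e)
    (hres : ∀ n : N, σ.character n = (e : ℂ) * σ₀.character n)
    (hodd : Odd (Nat.card K)) {ι : Type*} [Fintype ι] (act : ι → MulAut K)
    (hactN : ∀ i k, act i k ∈ N ↔ k ∈ N) (hactχ : ∀ i k, σ.character (act i k) = σ.character k)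
    (hcop : (Nat.card ι).Coprime (Nat.card K))
    (hprod : ∀ f : K →* ℂˣ, (∀ n ∈ N, f n = 1) → ∀ k, ∏ i, f ((act i).symm k) = 1) :
    ∃ τ : MulAut (weightGroup σ N), (∀ u, τ (τ u) = u) ∧
      (∀ u, τ u = u ↔ ∃ c : ℂ, ((u : (Op d)ˣ) : Op d) = c • 1) ∧
      ∃ J : (Op d)ˣ,
        (∀ n ∈ N, Commute (σ n) (J : Module.End ℂ (Fin d → ℂ))) ∧
        (∀ u : weightGroup σ N, (J : Module.End ℂ (Fin d → ℂ)) * ((u : (Op d)ˣ) : Op d) =
          ((τ u : (Op d)ˣ) : Op d) * J) ∧
        ∀ (β : MulAut K), (∀ k, β k ∈ N ↔ k ∈ N) → (∀ k, σ.character (β k) = σ.character k) →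
          (∀ i, ∃ n ∈ N, ∀ k, β (act i k) = n * act i (β k) * n⁻¹) →
          ∀ A : Module.End ℂ (Fin d → ℂ) ≃ₐ[ℂ] Module.End ℂ (Fin d → ℂ),
            (∀ k, A (σ k) = σ (β k)) →
          A J = J ∧ ∃ a : MulAut (weightGroup σ N), (∀ u, ((a u : (Op d)ˣ) : Op d) =
              A ((u : (Op d)ˣ) : Op d)) ∧ ∀ u, a (τ u) = τ (a u) := by
  classical
  haveI := finite_weightGroup (σ := σ) (N := N)
  haveI := nontrivial_of_isIrreducible σ
  letI : Fintype (weightGroup σ N) := Fintype.ofFinite _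
  choose B hB hBd using fun i => exists_autAlg σ (act i).toMonoidHom (hactχ i)
  choose a ha ha' using fun i => exists_weightAut (σ := σ) (N := N) (act i) (hactN i) (hactχ i)
    (hB i)
  have hEodd : Odd (Nat.card (weightGroup σ N)) :=
    Nat.coprime_two_right.1 (card_coprime (Nat.coprime_two_right.2 hodd))
  have hscal : ∀ z : weightGroup σ N, weightHom z = 1 →
      ∀ A : Module.End ℂ (Fin d → ℂ) ≃ₐ[ℂ] Module.End ℂ (Fin d → ℂ),
        A ((z : (Op d)ˣ) : Op d) = ((z : (Op d)ˣ) : Op d) := by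
    intro z hz A
    obtain ⟨c, hc⟩ := (weightHom_eq_one_iff z).1 hz
    rw [hc, map_smul, map_one]
  obtain ⟨τ, hττ, hτfix, hτβ⟩ := exists_inverting (wt := weightHom (σ := σ) (N := N)) a hEodd
    (card_coprime hcop.symm).symm
    (fun z v hz => by
      obtain ⟨c, hc⟩ := (weightHom_eq_one_iff z).1 hz
      refine Subtype.ext (Units.ext ?_)
      simp only [Subgroup.coe_mul, Units.val_mul, hc, smul_mul_assoc, mul_smul_comm, one_mul,
        mul_one])
    (fun i z hz => Subtype.ext (Units.ext ((ha i z).trans (hscal z hz _))))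
    (fun u => MonoidHom.ext fun k => by
      rw [MonoidHom.finsetProd_apply, MonoidHom.one_apply]
      simp only [ha', MonoidHom.comp_apply]
      exact hprod _ (fun n hn => weightHom_trivial u hn) k)
  refine ⟨τ, hττ, fun u => (hτfix u).trans (weightHom_eq_one_iff u), ?_⟩
  let E₁ : Finset (weightGroup σ N) := Finset.univ.filter fun v => τ v = v⁻¹
  let J : Module.End ℂ (Fin d → ℂ) := ∑ v ∈ E₁, ((v : (Op d)ˣ) : Op d)
  have hJn : ∀ n ∈ N, Commute (σ n) J := fun n hn =>
    Commute.sum_right _ _ _ fun v _ => weight_trivial hn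
  have hJu : ∀ u : weightGroup σ N, J * ((u : (Op d)ˣ) : Op d) =
      ((τ u : (Op d)ˣ) : Op d) * J := by
    intro u
    show (∑ v ∈ E₁, _) * _ = _ * ∑ v ∈ E₁, _
    rw [Finset.sum_mul, Finset.mul_sum]
    symm
    refine Finset.sum_bij (fun v _ => τ u * v * u⁻¹) (fun v hv => ?_) (fun v _ w _ h => ?_)
      (fun w hw => ?_) fun v _ => ?_
    · rw [Finset.mem_filter] at hv ⊢
      refine ⟨Finset.mem_univ _, ?_⟩
      rw [map_mul, map_mul, hττ, hv.2, map_inv]
      group
    · exact mul_left_cancel (mul_right_cancel h)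
    · rw [Finset.mem_filter] at hw
      refine ⟨(τ u)⁻¹ * w * u, ?_, by group⟩
      rw [Finset.mem_filter]
      refine ⟨Finset.mem_univ _, ?_⟩
      rw [map_mul, map_mul, map_inv, hττ, hw.2]
      group
    · rw [Subgroup.coe_mul, Subgroup.coe_mul, Units.val_mul, Units.val_mul, Subgroup.coe_inv,
        mul_assoc, Units.inv_mul, mul_one]
  have htr : LinearMap.trace ℂ (Fin d → ℂ) J = d := by
    have h1 : (1 : weightGroup σ N) ∈ E₁ := by simp [E₁]
    show LinearMap.trace ℂ (Fin d → ℂ) (∑ v ∈ E₁, _) = _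
    rw [map_sum, Finset.sum_eq_single (1 : weightGroup σ N)]
    · rw [OneMemClass.coe_one, Units.val_one, LinearMap.trace_one, Module.finrank_fin_fun]
    · intro v hv hne
      have hw : weightHom v ≠ 1 := fun h => hne (by
        rw [Finset.mem_filter, (hτfix v).2 h, eq_inv_iff_mul_eq_one] at hv
        obtain ⟨j, hj⟩ := hEodd
        have h2 : v ^ 2 = 1 := (sq v).trans hv.2
        have h3 := pow_card_eq_one' (x := v)
        rwa [hj, pow_succ, pow_mul, h2, one_pow, one_mul] at h3)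
      obtain ⟨k, hk⟩ : ∃ k, weightHom v k ≠ 1 := by
        by_contra h; push Not at h; exact hw (MonoidHom.ext h)
      have h := congrArg (fun X => LinearMap.trace ℂ (Fin d → ℂ) (X * σ k⁻¹)) (weightHom_spec v k)
      rw [mul_assoc, LinearMap.trace_mul_comm, mul_assoc, ← map_mul, inv_mul_cancel, map_one,
        mul_one, smul_mul_assoc, mul_assoc, ← map_mul, mul_inv_cancel, map_one, mul_one,
        map_smul, smul_eq_mul] at h
      by_contra h0
      refine hk (Units.ext (mul_right_cancel₀ h0 ?_))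
      rw [Units.val_one, one_mul]
      exact h.symm
    · exact fun h => absurd h1 h
  have hspan := mem_span_weight (σ := σ) hcomm σ₀ he hres
  have hker : LinearMap.ker J = ⊥ := by
    rcases IsSimpleOrder.eq_bot_or_eq_top (⟨LinearMap.ker J, fun k v hv =>
      invariant_of_span (σ := σ) (N := N) (fun n hn w hw => by
        rw [LinearMap.mem_ker] at hw ⊢
        have := LinearMap.congr_fun (hJn n hn).eq w
        rw [Module.End.mul_apply, Module.End.mul_apply, hw, map_zero] at this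
        exact this.symm) (fun u w hw => by
        rw [LinearMap.mem_ker] at hw ⊢
        have := LinearMap.congr_fun (hJu u) w
        rwa [Module.End.mul_apply, Module.End.mul_apply, hw, map_zero] at this)
        hspan k v hv⟩ : Subrepresentation σ) with h | h
    · exact congrArg Subrepresentation.toSubmodule h
    · exfalso
      have h0 : J = 0 := LinearMap.ker_eq_top.1 (congrArg Subrepresentation.toSubmodule h)
      rw [h0, map_zero] at htr
      exact (d_pos (σ := σ)).ne (Nat.cast_injective (R := ℂ) (by rw [← htr, Nat.cast_zero]))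
  have hJunit : IsUnit J := (LinearMap.isUnit_iff_ker_eq_bot _).2 hker
  refine ⟨hJunit.unit, hJn, hJu, fun β hβ hβχ hβa A hA => ?_⟩
  obtain ⟨b, hb⟩ := exists_weightAut (σ := σ) (N := N) β hβ hβχ hA
  have hbτ : ∀ u, b (τ u) = τ (b u) := by
    refine hτβ b (fun z hz => Subtype.ext (Units.ext ((hb z).1.trans (hscal z hz A)))) fun i u => ?_
    obtain ⟨n, hn, hnk⟩ := hβa i
    have hne : A.toAlgHom.toLinearMap.comp (B i).toAlgHom.toLinearMap =
        ((LinearMap.mulLeft ℂ (σ n)).comp (LinearMap.mulRight ℂ (σ n⁻¹))).comp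
          ((B i).toAlgHom.toLinearMap.comp A.toAlgHom.toLinearMap) := by
      refine LinearMap.ext_on_range (span_eq_top σ) fun k => ?_
      show A (B i (σ k)) = σ n * ((B i (A (σ k))) * σ n⁻¹)
      rw [hB, hA, hA, hB, ← map_mul, ← map_mul, ← mul_assoc]
      exact congrArg σ (hnk k)
    refine Subtype.ext (Units.ext ?_)
    have h2 := LinearMap.congr_fun hne ((u : (Op d)ˣ) : Op d)
    refine ((hb _).1.trans ((congrArg A (ha i u)).trans h2)).trans ?_
    show σ n * (B i (A _) * σ n⁻¹) = _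
    rw [← (hb u).1, ← ha i (b u), ← mul_assoc, (weight_trivial hn).eq, mul_assoc, ← map_mul,
      mul_inv_cancel, map_one, mul_one]
  refine ⟨?_, b, fun u => (hb u).1, hbτ⟩
  show A J = J
  rw [map_sum]
  refine Finset.sum_bij (fun v _ => b v) (fun v hv => ?_) (fun v _ w _ h => b.injective h)
    (fun w hw => ?_) fun v _ => ((hb v).1).symm
  · rw [Finset.mem_filter] at hv ⊢
    exact ⟨Finset.mem_univ _, by rw [← hbτ, hv.2, map_inv]⟩
  · rw [Finset.mem_filter] at hw
    refine ⟨b.symm w, ?_, b.apply_symm_apply w⟩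
    rw [Finset.mem_filter]
    refine ⟨Finset.mem_univ _, b.injective ?_⟩
    rw [hbτ, map_inv, b.apply_symm_apply, hw.2]

end CfsgLib.OddCorrespondence
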