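import Cfsg.Agent.OddCorrespondence.Clifford
import Cfsg.Agent.OddCorrespondence.Weights

/-!
# The fully invariant case

`G = K H`, `K ∩ H = L`, `K ⧸ L` abelian, `φ` on `K` and its constituent `θ` on `L` invariant in
`G` and under `S`, which centralises `H` modulo `L` and has trivial norm on `K ⧸ L`. Then odd
multiplicity in the restriction to `H` matches the characters of `G` over `φ` with those of `H`
over `θ`.
-/

set_option autoImplicit false
set_option linter.style.haveILetI false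
set_option linter.unusedSectionVars false

namespace CfsgLib.OddCorrespondence

open Cfsg CfsgLib.RelGlauberman CfsgLib.Characters
open CfsgLib.OddOrderChar (conjBy conjBy_apply)

universe u

variable {Γ : Type u} [Group Γ] [Finite Γ]

noncomputable local instance instFintypeSubCore (H : Subgroup Γ) : Fintype H := Fintype.ofFinite H
noncomputable local instance instFintypeIrrCore (H : Subgroup Γ) : Fintype (Cfsg.IrrCharacter H) :=
  Fintype.ofFinite _

/-- Conjugation by a normalising element. -/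
def conjAut {P H : Subgroup Γ} (hn : Normalises P H) (y : P) : MulAut H := (conjAutInv hn y).symm

theorem conjAut_apply {P H : Subgroup Γ} (hn : Normalises P H) (y : P) (k : H) :
    ((conjAut hn y k : H) : Γ) = (y : Γ) * k * (y : Γ)⁻¹ := rfl

theorem conjAut_symm_apply {P H : Subgroup Γ} (hn : Normalises P H) (y : P) (k : H) :
    (((conjAut hn y).symm k : H) : Γ) = (y : Γ)⁻¹ * k * (y : Γ) := rfl

/-- Restriction to a normal subgroup with an invariant constituent. -/
theorem res_eq_smul {G L : Subgroup Γ} (hLG : L ≤ G) (hn : Normalises G L) {χ : IrrCharacter G}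
    {θ : IrrCharacter L} (hθ : PInv G L (θ : L → ℂ)) (h : multNat hLG χ θ ≠ 0) :
    ∀ l : L, (χ : G → ℂ) (Subgroup.inclusion hLG l) = multNat hLG χ θ * (θ : L → ℂ) l := by
  haveI : (L.subgroupOf G).Normal := ⟨fun n hn' g => hn g g.2 n hn'⟩
  haveI : Fintype (L.subgroupOf G) := Fintype.ofFinite _
  let e : L.subgroupOf G ≃* L := Subgroup.subgroupOfEquivOfLe hLG
  have hres : Cfsg.classInner (fun n : L.subgroupOf G => (χ : G → ℂ) n)
      (fun n => (θ : L → ℂ) (e n)) = (multNat hLG χ θ : ℂ) := by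
    rw [← multNat_spec, multRes_eq_classInner, ← CharactersDeep.Clifford.classInner_comp_equiv e]
    rfl
  obtain ⟨m, -, hm, hme⟩ := CharactersDeep.Clifford.restrict_eq_smul (L.subgroupOf G) χ.2
    (Characters.isIrr_comp e.toMonoidHom e.surjective θ.2) (fun g => funext fun n => by
      rw [conjBy_apply]
      exact hθ g g.2 (e n) (e _) rfl) (hres.trans_ne (Nat.cast_ne_zero.2 h))
  intro l
  have h1 := congrFun hm (e.symm l)
  simp only [Pi.smul_apply, MulEquiv.coe_toMonoidHom, MulEquiv.apply_symm_apply, smul_eq_mul] at h1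
  rw [show multNat hLG χ θ = m from Nat.cast_injective (R := ℂ) (hres.symm.trans hme)]
  exact h1

/-- The hypotheses of the fully invariant case. -/
structure CoreData (G S K L H : Subgroup Γ) (φ : IrrCharacter K) (θ : IrrCharacter L) : Prop where
  hLK : L ≤ K
  hKG : K ≤ G
  hLH : L ≤ H
  hHG : H ≤ G
  hKn : Normalises G K
  hLn : Normalises G L
  hSK : Normalises S K
  hSL : Normalises S L
  hab : ∀ a ∈ K, ∀ b ∈ K, a * b * a⁻¹ * b⁻¹ ∈ L
  hinf : K ⊓ H ≤ L
  hgen : ∀ g ∈ G, ∃ k ∈ K, ∃ h ∈ H, g = k * h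
  hodd : Odd (Nat.card G)
  hcop : (Nat.card S).Coprime (Nat.card K)
  hHS : ∀ h ∈ H, ∀ s ∈ S, s * h * s⁻¹ * h⁻¹ ∈ L
  hprod : ∀ f : K →* ℂˣ, (∀ l : K, (l : Γ) ∈ L → f l = 1) → ∀ (k : K) (g : S → K),
    (∀ s, (g s : Γ) = (s : Γ)⁻¹ * k * s) → ∏ s, f (g s) = 1
  hφG : PInv G K (φ : K → ℂ)
  hφS : PInv S K (φ : K → ℂ)
  hθG : PInv G L (θ : L → ℂ)
  hφθ : multNat hLK φ θ ≠ 0

variable {G S K L H : Subgroup Γ} {φ : IrrCharacter K} {θ : IrrCharacter L}

theorem CoreData.index_eq (D : CoreData G S K L H φ θ) :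
    (K.subgroupOf G).index = (L.subgroupOf H).index := by
  haveI : (K.subgroupOf G).Normal := ⟨fun n hn g => D.hKn g g.2 n hn⟩
  let f : H →* G ⧸ K.subgroupOf G := (QuotientGroup.mk' _).comp (Subgroup.inclusion D.hHG)
  have hker : f.ker = L.subgroupOf H := by
    ext h
    rw [MonoidHom.mem_ker]
    show ((Subgroup.inclusion D.hHG h : G) : G ⧸ K.subgroupOf G) = 1 ↔ _
    rw [QuotientGroup.eq_one_iff]
    exact ⟨fun hh => D.hinf ⟨hh, h.2⟩, fun hh => D.hLK hh⟩
  have hsurj : Function.Surjective f := fun q => by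
    obtain ⟨g, rfl⟩ := QuotientGroup.mk_surjective q
    obtain ⟨k, hk, h, hh, hg⟩ := D.hgen g g.2
    refine ⟨⟨h, hh⟩, ?_⟩
    show ((Subgroup.inclusion D.hHG ⟨h, hh⟩ : G) : G ⧸ K.subgroupOf G) = _
    rw [QuotientGroup.eq]
    show h⁻¹ * (g : Γ) ∈ K
    rw [hg, ← mul_assoc]
    simpa using D.hKn _ (G.inv_mem (D.hHG hh)) k hk
  rw [← hker, Subgroup.index_ker, Subgroup.index_eq_card,
    show f.range = ⊤ from MonoidHom.range_eq_top.2 hsurj]
  exact (Nat.card_congr Subgroup.topEquiv.toEquiv).symm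

/-- Every character of `H` over `θ` gets one over `φ` with odd multiplicity. -/
theorem CoreData.exists_odd (D : CoreData G S K L H φ θ) (ψ : IrrCharacter H)
    (hψ : multNat D.hLH ψ θ ≠ 0) :
    ∃ χ : IrrCharacter G, multNat D.hKG χ φ ≠ 0 ∧ Odd (multNat D.hHG χ ψ) := by
  classical
  haveI : Fintype (K.subgroupOf G) := Fintype.ofFinite _
  haveI : Fintype (L.subgroupOf H) := Fintype.ofFinite _
  let eK : K.subgroupOf G ≃* K := Subgroup.subgroupOfEquivOfLe D.hKG
  let eL : L.subgroupOf H ≃* L := Subgroup.subgroupOfEquivOfLe D.hLH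
  set F : G → ℂ := Cfsg.indFun (K.subgroupOf G) fun x => (φ : K → ℂ) (eK x) with hF
  set f := multNat D.hLK φ θ with hf
  set e := multNat D.hLH ψ θ with he
  have hθH : PInv H L (θ : L → ℂ) := fun h hh => D.hθG h (D.hHG hh)
  have hres := res_eq_smul D.hLK (fun k hk => D.hLn k (D.hKG hk))
    (fun k hk => D.hθG k (D.hKG hk)) D.hφθ
  have hψL := res_eq_smul D.hLH (fun h hh => D.hLn h (D.hHG hh)) hθH hψ
  have hexp : F = ∑ χ : IrrCharacter G, (multNat D.hKG χ φ : ℂ) • (χ : G → ℂ) := by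
    refine (classFunction_expansion (isClassFunction_indFun (K.subgroupOf G) _)).trans
      (Finset.sum_congr rfl fun χ _ => congrArg (fun c : ℂ => c • (χ : G → ℂ)) ?_)
    rw [classInner_indFun _ _ (isClassFunction_of_isIrr χ.2), classInner_conj_symm,
      show (fun x : K.subgroupOf G => (χ : G → ℂ) x) =
        fun x => (χ : G → ℂ) (Subgroup.inclusion D.hKG (eK x)) from rfl,
      CharactersDeep.Clifford.classInner_comp_equiv eK
        (fun k : K => (χ : G → ℂ) (Subgroup.inclusion D.hKG k)) (φ : K → ℂ),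
      ← multRes_eq_classInner, multNat_spec, Complex.conj_natCast]
  -- the induced character is supported on `L`
  have hFH : ∀ h : H, F (Subgroup.inclusion D.hHG h) =
      if hl : (h : Γ) ∈ L then ((K.subgroupOf G).index : ℂ) * ((f : ℂ) * (θ : L → ℂ) ⟨h, hl⟩)
      else 0 := by
    intro h
    by_cases hl : (h : Γ) ∈ L
    · rw [dif_pos hl]
      show (Nat.card (K.subgroupOf G) : ℂ)⁻¹ * _ = _
      rw [Finset.sum_congr rfl (g := fun _ => (f : ℂ) * (θ : L → ℂ) ⟨h, hl⟩) fun x _ => ?_,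
        Finset.sum_const, Finset.card_univ, nsmul_eq_mul,
        ← Nat.card_eq_fintype_card, ← Subgroup.index_mul_card (K.subgroupOf G), Nat.cast_mul]
      · have : (Nat.card (K.subgroupOf G) : ℂ) ≠ 0 := Nat.cast_ne_zero.2 Nat.card_pos.ne'
        field_simp
      have hmem : x⁻¹ * Subgroup.inclusion D.hHG h * x ∈ K.subgroupOf G := by
        show (x : Γ)⁻¹ * h * x ∈ K
        simpa using D.hKn _ (G.inv_mem x.2) _ (D.hLK hl)
      rw [extendByZero_of_mem _ _ hmem, hf, ← hres ⟨h, hl⟩]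
      refine D.hφG _ (G.inv_mem x.2) _ _ ?_
      show (x : Γ)⁻¹ * h * x = (x : Γ)⁻¹ * h * (x : Γ)⁻¹⁻¹
      rw [inv_inv]
    · rw [dif_neg hl]
      refine indFun_eq_zero_of_forall _ _ _ fun x hx => hl ?_
      refine D.hinf ⟨?_, h.2⟩
      have hx' : (x : Γ)⁻¹ * h * x ∈ K := hx
      have := D.hKn _ x.2 _ hx'
      simpa [mul_assoc] using this
  -- parity
  have hinner : Cfsg.classInner (fun h : H => F (Subgroup.inclusion D.hHG h)) (ψ : H → ℂ) =
      ((f * e : ℕ) : ℂ) := by
    have hzero : ∀ h : H, h ∉ L.subgroupOf H →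
        F (Subgroup.inclusion D.hHG h) * (starRingEnd ℂ) ((ψ : H → ℂ) h) = 0 := fun h hh => by
      rw [hFH, dif_neg (show (h : Γ) ∉ L from hh), zero_mul]
    have hsum : ∑ h : H, F (Subgroup.inclusion D.hHG h) * (starRingEnd ℂ) ((ψ : H → ℂ) h) =
        ∑ x : L.subgroupOf H,
          F (Subgroup.inclusion D.hHG x) * (starRingEnd ℂ) ((ψ : H → ℂ) x) := by
      rw [← Finset.sum_subset (s₁ := Finset.univ.filter fun h => h ∈ L.subgroupOf H)
        (Finset.subset_univ _) fun h _ hh => hzero h (by simpa using hh)]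
      exact Finset.sum_subtype _ (by simp) _
    have hval : ∀ x : L.subgroupOf H,
        F (Subgroup.inclusion D.hHG x) * (starRingEnd ℂ) ((ψ : H → ℂ) x) =
          (((K.subgroupOf G).index * f * e : ℕ) : ℂ) *
            ((θ : L → ℂ) (eL x) * (starRingEnd ℂ) ((θ : L → ℂ) (eL x))) := by
      intro x
      have hl : ((x : H) : Γ) ∈ L := x.2
      have h5 : (ψ : H → ℂ) x = (e : ℂ) * (θ : L → ℂ) (eL x) := hψL (eL x)
      rw [hFH, dif_pos hl, h5, map_mul, Complex.conj_natCast]
      push_cast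
      rw [show (⟨_, hl⟩ : L) = eL x from rfl]
      ring
    rw [Cfsg.classInner, hsum, Finset.sum_congr rfl fun x _ => hval x, ← Finset.mul_sum,
      Fintype.sum_equiv eL.toEquiv (fun x => (θ : L → ℂ) (eL x) * (starRingEnd ℂ)
        ((θ : L → ℂ) (eL x))) (fun l => (θ : L → ℂ) l * (starRingEnd ℂ) ((θ : L → ℂ) l))
        fun _ => rfl]
    have h1 := classInner_isIrr_self θ.2
    rw [Cfsg.classInner, inv_mul_eq_one₀ (Nat.cast_ne_zero.2 Nat.card_pos.ne')] at h1
    rw [← h1, D.index_eq, ← Subgroup.index_mul_card (L.subgroupOf H),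
      Nat.card_congr eL.toEquiv]
    have h2 : ((L.subgroupOf H).index : ℂ) ≠ 0 :=
      Nat.cast_ne_zero.2 Subgroup.index_ne_zero_of_finite
    have h3 : (Nat.card L : ℂ) ≠ 0 := Nat.cast_ne_zero.2 Nat.card_pos.ne'
    push_cast
    field_simp
  have hpar : ∑ χ : IrrCharacter G, multNat D.hKG χ φ * multNat D.hHG χ ψ = f * e := by
    apply Nat.cast_injective (R := ℂ)
    rw [← hinner, show (fun h : H => F (Subgroup.inclusion D.hHG h)) =
      ∑ χ : IrrCharacter G, (multNat D.hKG χ φ : ℂ) •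
        (fun h : H => (χ : G → ℂ) (Subgroup.inclusion D.hHG h)) from funext fun h => by
      rw [hexp]; simp [Finset.sum_apply], classInner_sum_left, Nat.cast_sum]
    exact Finset.sum_congr rfl fun χ _ => by
      rw [classInner_smul_left, ← multRes_eq_classInner, multNat_spec, Nat.cast_mul]
  -- both multiplicities are odd
  have hoddmul : ∀ {A B : Subgroup Γ} (hBA : B ≤ A), A ≤ G → ∀ (η : IrrCharacter A)
      (ξ : IrrCharacter B), (∀ l : B, (η : A → ℂ) (Subgroup.inclusion hBA l) =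
        multNat hBA η ξ * (ξ : B → ℂ) l) → Odd (multNat hBA η ξ) := by
    intro A B hBA hAG η ξ h
    obtain ⟨m, ρ, hρ, hρη⟩ := η.2
    obtain ⟨j, hj⟩ := exists_degree (isCharacter_of_isIrr ξ.2)
    have h1 := h 1
    rw [map_one, hj, ← hρη, Representation.char_one, Module.finrank_fin_fun, ← Nat.cast_mul,
      Nat.cast_inj] at h1
    have hmd : m ∣ Nat.card A := by simpa [Module.finrank_fin_fun] using finrank_dvd_card ρ
    exact D.hodd.of_dvd_nat
      (((Dvd.intro _ h1.symm).trans hmd).trans (Subgroup.card_dvd_of_le hAG))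
  have hfe : Odd (f * e) := (hoddmul D.hLK D.hKG φ θ hres).mul (hoddmul D.hLH D.hHG ψ θ hψL)
  by_contra hno
  push Not at hno
  refine Nat.not_even_iff_odd.2 hfe (hpar ▸ Finset.even_sum _ fun χ _ => ?_)
  by_cases h0 : multNat D.hKG χ φ = 0
  · simp [h0]
  · exact Even.mul_left (Nat.not_odd_iff_even.1 (hno χ h0)) _

/-- The correspondent exists uniquely, and determines the character. -/
theorem CoreData.existsUnique_odd (D : CoreData G S K L H φ θ) :
    (∀ χ : IrrCharacter G, multNat D.hKG χ φ ≠ 0 →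
      ∃! ψ : IrrCharacter H, Odd (multNat D.hHG χ ψ)) ∧
    ∀ χ χ' : IrrCharacter G, multNat D.hKG χ φ ≠ 0 → multNat D.hKG χ' φ ≠ 0 →
      ∀ ψ : IrrCharacter H, Odd (multNat D.hHG χ ψ) → Odd (multNat D.hHG χ' ψ) → χ = χ' := by
  classical
  obtain ⟨d, σ, hσirr, hσφ⟩ := φ.2
  haveI := hσirr
  haveI := nontrivial_of_isIrreducible σ
  let N : Subgroup K := L.subgroupOf K
  haveI : N.Normal := ⟨fun n hn k => D.hLn k (D.hKG k.2) n hn⟩
  haveI : Fintype N := Fintype.ofFinite _
  have hnH : ∀ n : N, ((n.1 : K) : Γ) ∈ H := fun n => D.hLH (show ((n.1 : K) : Γ) ∈ L from n.2)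
  let eN : N ≃* L := Subgroup.subgroupOfEquivOfLe D.hLK
  obtain ⟨d₀, σ₀, hσ₀irr, hσ₀θ⟩ := Characters.isIrr_comp eN.toMonoidHom eN.surjective θ.2
  haveI := hσ₀irr
  have hres := res_eq_smul D.hLK (fun k hk => D.hLn k (D.hKG hk))
    (fun k hk => D.hθG k (D.hKG hk)) D.hφθ
  have hmemN : ∀ {P : Subgroup Γ} (hP : Normalises P K) (hPL : Normalises P L) (y : P) (k : K),
      conjAut hP y k ∈ N ↔ k ∈ N := by
    intro P hP hPL y k
    show (y : Γ) * k * (y : Γ)⁻¹ ∈ L ↔ (k : Γ) ∈ L
    exact ⟨fun h => by simpa [mul_assoc] using hPL _ (P.inv_mem y.2) _ h, fun h => hPL _ y.2 _ h⟩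
  have hchar : ∀ {P : Subgroup Γ} (hP : Normalises P K), PInv P K (φ : K → ℂ) → ∀ (y : P) (k : K),
      σ.character (conjAut hP y k) = σ.character k := fun hP hinv y k => by
    rw [hσφ]; exact hinv _ y.2 k _ rfl
  obtain ⟨τ, hττ, hτfix, J, hJN, hJu, hJA⟩ := exists_involution (σ := σ) (N := N)
    (fun a b => D.hab _ a.2 _ b.2) σ₀ (Nat.pos_of_ne_zero D.hφθ)
    (fun n => by rw [hσφ, hσ₀θ]; exact hres (eN n))
    (D.hodd.of_dvd_nat (Subgroup.card_dvd_of_le D.hKG))
    (fun s : S => conjAut D.hSK s) (hmemN D.hSK D.hSL) (hchar D.hSK D.hφS)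
    D.hcop
    (fun f hf k => D.hprod f (fun l hl => hf l hl) k _ fun s => rfl)
  haveI := finite_weightGroup (σ := σ) (N := N)
  have hHK : Normalises H K := fun h hh => D.hKn h (D.hHG hh)
  have hHL : Normalises H L := fun h hh => D.hLn h (D.hHG hh)
  have hHφ : PInv H K (φ : K → ℂ) := fun h hh => D.hφG h (D.hHG hh)
  choose A hA hAd using fun h : H =>
    exists_autAlg σ (conjAut hHK h).toMonoidHom (hchar hHK hHφ h)
  have hkey : ∀ h : H, A h (J : Op d) = J ∧ ∃ a : MulAut (weightGroup σ N),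
      (∀ v, ((a v : (Op d)ˣ) : Op d) = A h ((v : (Op d)ˣ) : Op d)) ∧ ∀ v, a (τ v) = τ (a v) := by
    intro h
    refine hJA (conjAut hHK h) (hmemN hHK hHL h) (hchar hHK hHφ h) (fun s => ?_) (A h) (hA h)
    have hn : (h : Γ) * s * (h : Γ)⁻¹ * (s : Γ)⁻¹ ∈ L := by
      simpa [mul_assoc] using L.inv_mem (D.hHS h h.2 s s.2)
    refine ⟨⟨_, D.hLK hn⟩, hn, fun k => Subtype.ext ?_⟩
    simp only [conjAut_apply, Subgroup.coe_mul, Subgroup.coe_inv]
    group
  choose hAJ a ha haτ using hkey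
  have haext : ∀ (h : H) (v w : weightGroup σ N),
      ((w : (Op d)ˣ) : Op d) = A h ((v : (Op d)ˣ) : Op d) → a h v = w := fun h v w hw =>
    Subtype.ext (Units.ext ((ha h v).trans hw.symm))
  have hAmul : ∀ g h : H, ∀ X : Op d, A (g * h) X = A g (A h X) := fun g h X => by
    have := algEquiv_ext σ (A := A (g * h)) (B := (A h).trans (A g)) fun k => by
      rw [hA]
      show _ = A g (A h (σ k))
      rw [hA, hA]
      refine congrArg σ (Subtype.ext ?_)
      simp only [MulEquiv.coe_toMonoidHom, conjAut_apply, Subgroup.coe_mul]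
      group
    rw [this]; rfl
  let aH : H →* MulAut (weightGroup σ N) :=
    MonoidHom.mk' a fun g h => MulEquiv.ext fun v => haext _ _ _ (by
      rw [hAmul, MulAut.mul_apply, ha, ha])
  let Gs := (weightGroup σ N) ⋊[aH] H
  haveI : Finite Gs := Finite.of_equiv _ SemidirectProduct.equivProd.symm
  letI : Fintype Gs := Fintype.ofFinite _
  let τs : MulAut Gs :=
    { toFun := fun x => ⟨τ x.left, x.right⟩
      invFun := fun x => ⟨τ x.left, x.right⟩
      left_inv := fun x => SemidirectProduct.ext (hττ _) rfl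
      right_inv := fun x => SemidirectProduct.ext (hττ _) rfl
      map_mul' := fun x y => SemidirectProduct.ext (by
        show τ (x.left * a x.right y.left) = τ x.left * a x.right (τ y.left)
        rw [map_mul, haτ]) rfl }
  let P : Subgroup (MulAut Gs) := Subgroup.zpowers τs
  haveI : Finite (MulAut Gs) :=
    Finite.of_injective (fun f => (f : Gs → Gs)) fun f g h => MulEquiv.ext (congrFun h)
  have hP : IsPGroup 2 P := by
    intro x
    refine ⟨1, ?_⟩
    obtain ⟨j, hj⟩ := Subgroup.mem_zpowers_iff.1 x.2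
    have h2 : τs ^ 2 = 1 := MulEquiv.ext fun y => by
      rw [sq, MulAut.mul_apply, MulAut.one_apply]
      exact SemidirectProduct.ext (hττ _) rfl
    refine Subtype.ext ?_
    rw [pow_one, SubgroupClass.coe_pow, ← hj, OneMemClass.coe_one, ← zpow_natCast, ← zpow_mul,
      mul_comm, zpow_mul, zpow_natCast, h2, one_zpow]
  have h2G : ¬ 2 ∣ Nat.card Gs := by
    rw [Nat.card_congr SemidirectProduct.equivProd, Nat.card_prod, ← even_iff_two_dvd,
      Nat.not_even_iff_odd]
    exact (Nat.coprime_two_right.1 (card_coprime (Nat.coprime_two_right.2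
      (D.hodd.of_dvd_nat (Subgroup.card_dvd_of_le D.hKG))))).mul
        (D.hodd.of_dvd_nat (Subgroup.card_dvd_of_le D.hHG))
  let Cs : Subgroup Gs :=
    { carrier := {x | τs x = x}
      one_mem' := map_one τs
      mul_mem' := fun {x y} hx hy => (map_mul τs x y).trans (congrArg₂ (· * ·) hx hy)
      inv_mem' := fun {x} hx => (map_inv τs x).trans (congrArg (·⁻¹) hx) }
  letI : Fintype Cs := Fintype.ofFinite _
  have hCs : ∀ x, x ∈ Cs ↔ ∀ s : P, s • x = x := by
    intro x
    refine ⟨fun hx s => ?_, fun h => h ⟨τs, Subgroup.mem_zpowers τs⟩⟩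
    exact (Subgroup.zpowers_le.2 (show τs ∈ MulAction.stabilizer (MulAut Gs) x from hx)) s.2
  have hscal : ∀ x : Cs, ∃ c : ℂ, ((x.1.left : (Op d)ˣ) : Op d) = c • 1 := fun x =>
    (hτfix _).1 (congrArg SemidirectProduct.left x.2)
  choose w hw using hscal
  have hw1 : ∀ (x : Cs) (c : ℂ), ((x.1.left : (Op d)ˣ) : Op d) = c • 1 → w x = c := fun x c h =>
    smul_left_injective ℂ (one_ne_zero : (1 : Op d) ≠ 0) ((hw x).symm.trans h)
  let W : Cs →* ℂ :=
    { toFun := w
      map_one' := hw1 _ _ (by simp)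
      map_mul' := fun x y => hw1 _ _ (by
        show (((x.1.left * a x.1.right y.1.left : weightGroup σ N) : (Op d)ˣ) : Op d) = _
        rw [Subgroup.coe_mul, Units.val_mul, ha, hw, hw, map_smul, map_one, smul_mul_assoc,
          one_mul, smul_smul]) }
  let pr : Cs →* H := (SemidirectProduct.rightHom).comp Cs.subtype
  have hinr : ∀ h : H, (SemidirectProduct.inr h : Gs) ∈ Cs := fun h =>
    SemidirectProduct.ext (map_one τ) rfl
  have hprs : Function.Surjective pr := fun h => ⟨⟨_, hinr h⟩, rfl⟩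
  let β : IrrCharacter H → IrrCharacter Cs := fun ψ =>
    ⟨fun x => (ψ : H → ℂ) (pr x) * (W.toHomUnits x : ℂ),
      CfsgLib.Glauberman.isIrr_mul_hom (Characters.isIrr_comp pr hprs ψ.2) _⟩
  have hβinj : Function.Injective β := fun ψ ψ' h => Subtype.ext (funext fun h' => by
    have h1 : (ψ : H → ℂ) h' * w ⟨_, hinr h'⟩ = (ψ' : H → ℂ) h' * w ⟨_, hinr h'⟩ :=
      congrFun (congrArg Subtype.val h) ⟨_, hinr h'⟩
    rwa [hw1 ⟨_, hinr h'⟩ 1 (by simp), mul_one, mul_one] at h1)
  -- the attached representation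
  have hrep : ∀ χ : IrrCharacter G, multNat D.hKG χ φ ≠ 0 →
      ∃ χs : IrrCharacter Gs, CfsgLib.Glauberman.IsInv P (χs : Gs → ℂ) ∧
        (∀ x : Cs, (χs : Gs → ℂ) x =
          w x * (χ : G → ℂ) (Subgroup.inclusion D.hHG x.1.right)) ∧
        ∀ h : H, ∃ l : Op d →ₗ[ℂ] ℂ,
          (∀ (n : N) (v : weightGroup σ N), l (σ n * ((v : (Op d)ˣ) : Op d)) =
            (χs : Gs → ℂ) ⟨v, ⟨(n.1 : Γ) * h, H.mul_mem (hnH n) h.2⟩⟩) ∧
          ∀ k : K, l (σ k) = (χ : G → ℂ) (Subgroup.inclusion D.hKG k * Subgroup.inclusion D.hHG h)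
      := by
    intro χ hχ
    obtain ⟨m, ρ, hρirr, hρχ⟩ := χ.2
    haveI := hρirr
    obtain ⟨Φ, -, hΦ⟩ := exists_algHom_isotypic σ (multNat D.hKG χ φ) (Nat.pos_of_ne_zero hχ)
      (ρ.comp (Subgroup.inclusion D.hKG)) (funext fun k => by
        show ρ.character (Subgroup.inclusion D.hKG k) = _
        rw [hρχ, res_eq_smul D.hKG D.hKn D.hφG hχ, Pi.smul_apply, smul_eq_mul, hσφ])
    have hΦ' : ∀ k : K, Φ (σ k) = ρ (Subgroup.inclusion D.hKG k) := hΦ
    have hconj : ∀ (h : H) (X : Op d),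
        Φ (A h X) * ρ (Subgroup.inclusion D.hHG h) = ρ (Subgroup.inclusion D.hHG h) * Φ X := by
      intro h
      have h1 : (LinearMap.mulRight ℂ (ρ (Subgroup.inclusion D.hHG h))).comp
          (Φ.toLinearMap.comp (A h).toAlgHom.toLinearMap) =
          (LinearMap.mulLeft ℂ (ρ (Subgroup.inclusion D.hHG h))).comp Φ.toLinearMap := by
        refine LinearMap.ext_on_range (span_eq_top σ) fun k => ?_
        show Φ (A h (σ k)) * _ = _ * Φ (σ k)
        rw [hA, hΦ', hΦ', ← map_mul, ← map_mul]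
        refine congrArg ρ (Subtype.ext ?_)
        simp only [Subgroup.coe_mul, Subgroup.coe_inclusion, MulEquiv.coe_toMonoidHom,
          conjAut_apply]
        group
      exact LinearMap.congr_fun h1
    let π : Representation ℂ Gs (Fin m → ℂ) :=
      { toFun := fun x => Φ ((x.left : (Op d)ˣ) : Op d) * ρ (Subgroup.inclusion D.hHG x.right)
        map_one' := by simp
        map_mul' := fun x y => by
          show Φ (((x.left * a x.right y.left : weightGroup σ N) : (Op d)ˣ) : Op d) * _ = _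
          rw [Subgroup.coe_mul, Units.val_mul, ha, map_mul, SemidirectProduct.mul_right, map_mul,
            map_mul, mul_assoc, ← mul_assoc (Φ (A _ _)), hconj]
          simp only [mul_assoc] }
    haveI := nontrivial_of_isIrreducible ρ
    have hπirr : π.IsIrreducible := by
      refine isIrreducible_of_forall π fun U hU => ?_
      have hu : ∀ (v : weightGroup σ N), ∀ x ∈ U,
          Φ ((v : (Op d)ˣ) : Op d) x ∈ U := fun v x hx => by
        have h1 := hU (SemidirectProduct.inl v : Gs) x hx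
        show Φ _ x ∈ _
        simpa [π] using h1
      have hh : ∀ (h : H), ∀ x ∈ U,
          ρ (Subgroup.inclusion D.hHG h) x ∈ U := fun h x hx => by
        have h1 := hU (SemidirectProduct.inr h : Gs) x hx
        simpa [π] using h1
      have hk : ∀ (k : K), ∀ x ∈ U,
          ρ (Subgroup.inclusion D.hKG k) x ∈ U := fun k x hx => by
        rw [← hΦ']
        have hX := mem_span_weight (σ := σ) (N := N) (fun a b => D.hab _ a.2 _ b.2) σ₀
          (Nat.pos_of_ne_zero D.hφθ) (fun n => by rw [hσφ, hσ₀θ]; exact hres (eN n)) k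
        generalize σ k = X at hX ⊢
        induction hX using Submodule.span_induction with
        | mem z hz =>
          obtain ⟨n, v, rfl⟩ := hz
          rw [map_mul, hΦ', Module.End.mul_apply]
          exact hh ⟨n.1, hnH n⟩ _ (hu v x hx)
        | zero => rw [map_zero]; exact U.zero_mem
        | add z z' _ _ h1 h2 => rw [map_add]; exact U.add_mem h1 h2
        | smul r z _ h1 => rw [map_smul]; exact U.smul_mem r h1
      rcases IsSimpleOrder.eq_bot_or_eq_top (⟨U, fun g x hx => by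
        obtain ⟨k, hk', h, hh', hg⟩ := D.hgen g g.2
        rw [show g = Subgroup.inclusion D.hKG ⟨k, hk'⟩ * Subgroup.inclusion D.hHG ⟨h, hh'⟩ from
          Subtype.ext hg, map_mul, Module.End.mul_apply]
        exact hk _ _ (hh _ _ hx)⟩ : Subrepresentation ρ) with h | h
      · exact Or.inl (congrArg Subrepresentation.toSubmodule h)
      · exact Or.inr (congrArg Subrepresentation.toSubmodule h)
    haveI := hπirr
    refine ⟨irrOf π, ?_, fun x => ?_, fun h => ?_⟩
    · have hJ : ∀ x : Gs, π.character (τs x) = π.character x := by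
        intro x
        have hint : π (τs x) * Φ (J : Op d) = Φ (J : Op d) * π x := by
          show Φ ((τ x.left : (Op d)ˣ) : Op d) * ρ (Subgroup.inclusion D.hHG x.right) *
            Φ (J : Op d) = Φ (J : Op d) *
              (Φ ((x.left : (Op d)ˣ) : Op d) * ρ (Subgroup.inclusion D.hHG x.right))
          rw [mul_assoc, ← hconj, hAJ, ← mul_assoc, ← mul_assoc, ← map_mul, ← map_mul, hJu]
        show LinearMap.trace ℂ _ (π (τs x)) = LinearMap.trace ℂ _ (π x)
        have hJJ : Φ (J : Op d) * Φ ((J⁻¹ : (Op d)ˣ) : Op d) = 1 := by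
          rw [← map_mul, Units.mul_inv, map_one]
        rw [← mul_one (π (τs x)), ← hJJ, ← mul_assoc, hint, LinearMap.trace_mul_comm, ← mul_assoc,
          ← map_mul, Units.inv_mul, map_one, one_mul]
      intro s x
      exact (Subgroup.zpowers_le.2 (show τs ∈
        ({ carrier := {f | ∀ y, π.character (f y) = π.character y}
           one_mem' := fun _ => rfl
           mul_mem' := fun {f g} hf hg y => (hf _).trans (hg y)
           inv_mem' := fun {f} hf y => by
             have := hf (f⁻¹ y); rwa [MulAut.apply_inv_self, eq_comm] at this }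
          : Subgroup (MulAut Gs)) from hJ)) s.2 x
    · show LinearMap.trace ℂ _ (π x.1) = _
      show LinearMap.trace ℂ _ (Φ _ * ρ _) = _
      rw [hw, map_smul, map_one, smul_mul_assoc, one_mul, map_smul, ← hρχ]
      rfl
    · refine ⟨(LinearMap.trace ℂ (Fin m → ℂ)).comp
        ((LinearMap.mulRight ℂ (ρ (Subgroup.inclusion D.hHG h))).comp Φ.toLinearMap),
        fun n v => ?_, fun k => ?_⟩
      · show LinearMap.trace ℂ _ (Φ (σ n * _) * ρ _) = LinearMap.trace ℂ _ (Φ _ * ρ _)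
        rw [(weight_trivial (σ := σ) n.2).eq, map_mul Φ, hΦ', mul_assoc, ← map_mul ρ]
        exact congrArg _ (congrArg _ (congrArg ρ (Subtype.ext rfl)))
      · show LinearMap.trace ℂ _ (Φ (σ k) * ρ _) = _
        rw [hΦ', ← map_mul, ← hρχ]
        rfl
  choose Xs hXinv hXC hXl using hrep
  -- multiplicities in the fixed points
  have hmult : ∀ (χ : IrrCharacter G) (hχ : multNat D.hKG χ φ ≠ 0) (b : IrrCharacter Cs),
      Cfsg.classInner (fun x : Cs => (Xs χ hχ : Gs → ℂ) x) (b : Cs → ℂ) =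
        ∑ ψ : IrrCharacter H, (multNat D.hHG χ ψ : ℂ) *
          Cfsg.classInner (β ψ : Cs → ℂ) (b : Cs → ℂ) := by
    intro χ hχ b
    have h1 : (fun x : Cs => (Xs χ hχ : Gs → ℂ) x) =
        ∑ ψ : IrrCharacter H, (multNat D.hHG χ ψ : ℂ) • (β ψ : Cs → ℂ) := funext fun x => by
      rw [hXC]
      have h2 := congrFun (res_expansion D.hHG χ) x.1.right
      rw [h2, Finset.sum_apply, Finset.sum_apply, Finset.mul_sum]
      refine Finset.sum_congr rfl fun ψ _ => ?_
      show w x * ((multNat D.hHG χ ψ : ℂ) * (ψ : H → ℂ) x.1.right) =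
        (multNat D.hHG χ ψ : ℂ) * ((ψ : H → ℂ) x.1.right * w x)
      ring
    rw [h1, classInner_sum_left]
    exact Finset.sum_congr rfl fun ψ _ => classInner_smul_left _ _ _
  have hmultβ : ∀ (χ : IrrCharacter G) (hχ : multNat D.hKG χ φ ≠ 0) (ψ : IrrCharacter H),
      Cfsg.classInner (fun x : Cs => (Xs χ hχ : Gs → ℂ) x) (β ψ : Cs → ℂ) =
        (multNat D.hHG χ ψ : ℂ) := by
    intro χ hχ ψ
    rw [hmult, Finset.sum_eq_single ψ, classInner_isIrr_self (β ψ).2, mul_one]
    · exact fun ψ' _ hne => by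
        rw [classInner_isIrr_ne (β ψ').2 (β ψ).2 fun h => hne (hβinj (Subtype.ext h)), mul_zero]
    · simp
  have hrel : ∀ (χ : IrrCharacter G) (hχ : multNat D.hKG χ φ ≠ 0) (ψ : IrrCharacter H),
      Odd (multNat D.hHG χ ψ) → CfsgLib.Glauberman.Rel 2 Cs (Xs χ hχ) (β ψ) := fun χ hχ ψ h =>
    ⟨_, hmultβ χ hχ ψ, fun hd => Nat.not_even_iff_odd.2 h (even_iff_two_dvd.2 hd)⟩
  refine ⟨fun χ hχ => ?_, fun χ χ' hχ hχ' ψ h h' => ?_⟩
  · obtain ⟨b, hb, huniq⟩ :=
      CfsgLib.Glauberman.existsUnique_rel hP h2G Cs hCs (hXinv χ hχ)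
    obtain ⟨n, hn, hnd⟩ := hb
    obtain ⟨ψ, -, hψ⟩ := Finset.exists_ne_zero_of_sum_ne_zero
      ((hmult χ hχ b).symm.trans_ne (hn.trans_ne (Nat.cast_ne_zero.2 fun h0 =>
        hnd (h0 ▸ dvd_zero 2))))
    have hbψ : β ψ = b := by
      by_contra hne
      exact hψ (by rw [classInner_isIrr_ne (β ψ).2 b.2 fun h => hne (Subtype.ext h), mul_zero])
    refine ⟨ψ, ?_, fun ψ' h' => hβinj ((huniq _ (hrel χ hχ ψ' h')).trans hbψ.symm)⟩
    rw [← hbψ, hmultβ, Nat.cast_inj] at hn
    show Odd (multNat D.hHG χ ψ)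
    rw [hn, ← Nat.not_even_iff_odd, even_iff_two_dvd]
    exact hnd
  · have hX : Xs χ hχ = Xs χ' hχ' := CfsgLib.Glauberman.rel_left_unique hP h2G Cs hCs
      (hXinv χ hχ) (hXinv χ' hχ') (hrel χ hχ ψ h) (hrel χ' hχ' ψ h')
    refine Subtype.ext (funext fun g => ?_)
    obtain ⟨k, hk, h₀, hh₀, hg⟩ := D.hgen g g.2
    obtain ⟨l, hl, hlk⟩ := hXl χ hχ ⟨h₀, hh₀⟩
    obtain ⟨l', hl', hlk'⟩ := hXl χ' hχ' ⟨h₀, hh₀⟩
    rw [show g = Subgroup.inclusion D.hKG ⟨k, hk⟩ * Subgroup.inclusion D.hHG ⟨h₀, hh₀⟩ from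
      Subtype.ext hg, ← hlk, ← hlk']
    have hk' := mem_span_weight (σ := σ) (N := N) (fun a b => D.hab _ a.2 _ b.2) σ₀
      (Nat.pos_of_ne_zero D.hφθ) (fun n => by rw [hσφ, hσ₀θ]; exact hres (eN n)) ⟨k, hk⟩
    refine LinearMap.eqOn_span ?_ hk'
    rintro _ ⟨n, v, rfl⟩
    rw [hl, hl', hX]

end CfsgLib.OddCorrespondence
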