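import Cfsg.Agent.OddCorrespondence.Core
import Cfsg.Agent.Glauberman.Constituent

/-!
# Reduction to the fully invariant case

With `K₀ = [K, S] L` the norm of `S` on `K₀ ⧸ L` is trivial, so `K₀ ∩ C ≤ L` and `G = K₀ C`. The
Clifford correspondence over an `S`-invariant `θ` on `L` then leads to the fully invariant case
inside the inertia group of `θ`.
-/

set_option autoImplicit false
set_option linter.style.haveILetI false
set_option linter.unusedSectionVars false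

namespace CfsgLib.OddCorrespondence

open Cfsg CfsgLib.RelGlauberman CfsgLib.Characters
open scoped commutatorElement

universe u

variable {Γ : Type u} [Group Γ] [Finite Γ]

noncomputable local instance instFintypeSubRed (H : Subgroup Γ) : Fintype H := Fintype.ofFinite H
noncomputable local instance instFintypeIrrRed (H : Subgroup Γ) : Fintype (Cfsg.IrrCharacter H) :=
  Fintype.ofFinite _

theorem le_normalizer_of_normalises {P H : Subgroup Γ} (h : Normalises P H) :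
    P ≤ Subgroup.normalizer (H : Set Γ) := fun x hx =>
  Subgroup.mem_normalizer_iff.2 fun g => ⟨h x hx g, fun hg => by
    simpa [mul_assoc] using h x⁻¹ (P.inv_mem hx) _ hg⟩

theorem normalises_self (H : Subgroup Γ) : Normalises H H := fun _ hx _ hh =>
  H.mul_mem (H.mul_mem hx hh) (H.inv_mem hx)

/-- A character is fixed by its own group. -/
theorem pInv_self {H : Subgroup Γ} (ψ : IrrCharacter H) : PInv H H (ψ : H → ℂ) :=
  fun x hx k k' hk => by
    rw [show k' = ⟨x, hx⟩ * k * (⟨x, hx⟩ : H)⁻¹ from Subtype.ext hk]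
    exact isClassFunction_of_isIrr ψ.2 k ⟨x, hx⟩

/-- A power prime to a period lies in a subgroup only if the element does. -/
theorem mem_of_pow_mem {X : Type*} [Group X] (St : Subgroup X) {n m : ℕ} (hnm : n.Coprime m)
    {l : X} (h : l ^ n ∈ St) (hm : l ^ m = 1) : l ∈ St := by
  have hb := Nat.gcd_eq_gcd_ab n m
  rw [hnm, Nat.cast_one] at hb
  rw [← zpow_one l, hb, zpow_add, zpow_mul, zpow_mul, zpow_natCast, zpow_natCast, hm,
    one_zpow, mul_one]
  exact St.zpow_mem h _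

/-- An invariant character has an invariant constituent on an invariant normal subgroup. -/
theorem exists_inv_below_of_solvable {A B S : Subgroup Γ} (hBA : B ≤ A) (hn : Normalises A B)
    (hSA : Normalises S A) (hSB : Normalises S B) (hcop : (Nat.card A).Coprime (Nat.card S))
    (hsolv : Group.IsSolvable A) (χ : IrrCharacter A) (hχ : PInv S A (χ : A → ℂ)) :
    ∃ θ : IrrCharacter B, PInv S B (θ : B → ℂ) ∧ multNat hBA χ θ ≠ 0 := by
  classical
  letI := Glauberman.conjAction A S hSA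
  haveI : (B.subgroupOf A).Normal := ⟨fun n hn' g => hn g g.2 n hn'⟩
  haveI : Fintype (B.subgroupOf A) := Fintype.ofFinite _
  haveI := hsolv
  obtain ⟨θ, hθ, hinv⟩ := Glauberman.exists_inv_below (S := S) (B.subgroupOf A)
    (fun s x hx => hSB s s.2 _ hx) (hcop.coprime_dvd_left (Subgroup.index_dvd_card _))
    (Or.inr inferInstance) χ ((Glauberman.isInv_conjAction_iff A S hSA _).2 hχ)
  let e : B.subgroupOf A ≃* B := Subgroup.subgroupOfEquivOfLe hBA
  refine ⟨Glauberman.irrCongr e.symm θ, fun x hx k k' hk => ?_, fun h0 => hθ ?_⟩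
  · exact hinv ⟨x, hx⟩ (e.symm k) (e.symm k') (Subtype.ext hk)
  · have h := CharactersDeep.Clifford.classInner_comp_equiv e
      (fun b : B => (χ : A → ℂ) (Subgroup.inclusion hBA b))
      ((Glauberman.irrCongr e.symm θ : IrrCharacter B) : B → ℂ)
    rw [← multRes_eq_classInner, multNat_spec, h0, Nat.cast_zero] at h
    refine Eq.trans ?_ h
    congr 1

/-- An invariant character lies under an invariant one, abelian quotient. -/
theorem exists_inv_above_comm' {A B S : Subgroup Γ} (hBA : B ≤ A) (hn : Normalises A B)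
    (hSA : Normalises S A) (hSB : Normalises S B) (hcop : (Nat.card A).Coprime (Nat.card S))
    (hab : ∀ a ∈ A, ∀ b ∈ A, a * b * a⁻¹ * b⁻¹ ∈ B) (θ : IrrCharacter B)
    (hθ : PInv S B (θ : B → ℂ)) :
    ∃ χ : IrrCharacter A, PInv S A (χ : A → ℂ) ∧ multNat hBA χ θ ≠ 0 := by
  classical
  letI := Glauberman.conjAction A S hSA
  haveI : (B.subgroupOf A).Normal := ⟨fun n hn' g => hn g g.2 n hn'⟩
  haveI : Fintype (B.subgroupOf A) := Fintype.ofFinite _
  let e : B.subgroupOf A ≃* B := Subgroup.subgroupOfEquivOfLe hBA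
  obtain ⟨χ, hχ, hne⟩ := Glauberman.exists_inv_above_comm (S := S) (B.subgroupOf A)
    (fun s x hx => hSB s s.2 _ hx)
    (by
      rw [commutator_def, Subgroup.commutator_le]
      exact fun a _ b _ => hab a a.2 b b.2)
    (hcop.coprime_dvd_left (Subgroup.index_dvd_card _)) (Glauberman.irrCongr e θ)
    (fun s x y hxy => hθ s s.2 (e x) (e y) (congrArg Subtype.val hxy))
  refine ⟨χ, (Glauberman.isInv_conjAction_iff A S hSA _).1 hχ, fun h0 => hne ?_⟩
  have h := CharactersDeep.Clifford.classInner_comp_equiv e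
    (fun b : B => (χ : A → ℂ) (Subgroup.inclusion hBA b)) (θ : B → ℂ)
  rw [← multRes_eq_classInner, multNat_spec, h0, Nat.cast_zero] at h
  exact h

/-- Characters of `A` over the same character of `B` differ by a linear one if `A ⧸ B` is
abelian. -/
theorem exists_twist {A B : Subgroup Γ} (hBA : B ≤ A) (hn : Normalises A B)
    (hab : ∀ a ∈ A, ∀ b ∈ A, a * b * a⁻¹ * b⁻¹ ∈ B) {θ : IrrCharacter B} (φ φ' : IrrCharacter A)
    (h : multNat hBA φ θ ≠ 0) (h' : multNat hBA φ' θ ≠ 0) :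
    ∃ l : A →* ℂˣ, (∀ b : A, (b : Γ) ∈ B → l b = 1) ∧
      ∀ a, (φ' : A → ℂ) a = (φ : A → ℂ) a * (l a : ℂ) := by
  classical
  set N := B.subgroupOf A with hN
  haveI : N.Normal := ⟨fun n hn' g => hn g g.2 n hn'⟩
  haveI : Fintype N := Fintype.ofFinite _
  let e : N ≃* B := Subgroup.subgroupOfEquivOfLe hBA
  haveI := Fintype.ofFinite (A ⧸ N)
  have hcomm : ∀ x y : A ⧸ N, x * y = y * x := fun x y => by
    induction x using QuotientGroup.induction_on with | H a => ?_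
    induction y using QuotientGroup.induction_on with | H b => ?_
    rw [← QuotientGroup.mk_mul, ← QuotientGroup.mk_mul, QuotientGroup.eq]
    show ((a : Γ) * b)⁻¹ * ((b : Γ) * a) ∈ B
    simpa [mul_assoc] using hab _ (A.inv_mem b.2) _ (A.inv_mem a.2)
  have key : ∀ η : IrrCharacter A, multNat hBA η θ ≠ 0 → Cfsg.classInner
      (fun n : N => (η : A → ℂ) n) ((Glauberman.irrCongr e θ : IrrCharacter N) : N → ℂ) ≠ 0 := by
    intro η hη h0
    refine hη (multNat_unique hBA ?_)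
    rw [Nat.cast_zero, multRes_eq_classInner, ← CharactersDeep.Clifford.classInner_comp_equiv e]
    exact h0
  have hne := Glauberman.classInner_ne_zero_common
    (isCharacter_restrict N (isCharacter_of_isIrr φ.2))
    (isCharacter_restrict N (isCharacter_of_isIrr φ'.2)) _ (key φ h) (key φ' h')
  rw [← classInner_indFun N _ (isClassFunction_of_isIrr φ'.2),
    CharactersDeep.Gallagher.indFun_restrict N φ.2, classInner_sum_left] at hne
  obtain ⟨β, -, hβ⟩ := Finset.exists_ne_zero_of_sum_ne_zero hne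
  rw [classInner_smul_left] at hβ
  obtain ⟨f, hf⟩ := exists_hom_of_degree_one (isCharacter_of_isIrr β.2)
    (OddOrderChar.irr_degree_one_of_comm hcomm β)
  have heq : CharactersDeep.Gallagher.prodInfl N (φ : A → ℂ) (β : A ⧸ N → ℂ) =
      fun a : A => (φ : A → ℂ) a * ((f.comp (QuotientGroup.mk' N)) a : ℂ) := by
    funext a; rw [CharactersDeep.Gallagher.prodInfl, hf]; rfl
  refine ⟨f.comp (QuotientGroup.mk' N), fun b hb => ?_, fun a => ?_⟩
  · show f (b : A ⧸ N) = 1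
    rw [(QuotientGroup.eq_one_iff b).2 (show b ∈ N from hb), map_one]
  · by_contra hne'
    refine hβ ?_
    rw [heq, classInner_isIrr_ne (Glauberman.isIrr_mul_hom φ.2 _) φ'.2
      (fun hh => hne' (congrFun hh a).symm), mul_zero]

/-- The hypotheses of the statement. -/
structure Setting (G S C K L H : Subgroup Γ) : Prop where
  hSG : Normalises S G
  hcop : (Nat.card G).Coprime (Nat.card S)
  hsolv : Group.IsSolvable G
  hodd : Odd (Nat.card G)
  hC : C = G ⊓ Subgroup.centralizer (S : Set Γ)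
  hLK : L ≤ K
  hKG : K ≤ G
  hKn : Normalises G K
  hLn : Normalises G L
  hSK : Normalises S K
  hSL : Normalises S L
  hab : ∀ a ∈ K, ∀ b ∈ K, a * b * a⁻¹ * b⁻¹ ∈ L
  hGKC : K ⊔ C = G
  hH : H = L ⊔ C

variable {G S C K L H : Subgroup Γ}

theorem Setting.hLG (D : Setting G S C K L H) : L ≤ G := D.hLK.trans D.hKG
theorem Setting.hCG (D : Setting G S C K L H) : C ≤ G := D.hC ▸ inf_le_left
theorem Setting.hLH (D : Setting G S C K L H) : L ≤ H := D.hH ▸ le_sup_left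
theorem Setting.hCH (D : Setting G S C K L H) : C ≤ H := D.hH ▸ le_sup_right
theorem Setting.hHG (D : Setting G S C K L H) : H ≤ G := D.hH ▸ sup_le D.hLG D.hCG

theorem Setting.fixed (D : Setting G S C K L H) {c : Γ} (hc : c ∈ C) {s : Γ} (hs : s ∈ S) :
    s * c * s⁻¹ = c := by
  rw [D.hC] at hc
  rw [Subgroup.mem_centralizer_iff.1 hc.2 s hs, mul_inv_cancel_right]

theorem Setting.hHS (D : Setting G S C K L H) :
    ∀ h ∈ H, ∀ s ∈ S, s * h * s⁻¹ * h⁻¹ ∈ L := by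
  intro h hh s hs
  rw [D.hH] at hh
  obtain ⟨l, hl, c, hc, rfl⟩ := Coprime.exists_mul_of_mem_sup
    (le_normalizer_of_normalises fun x hx => D.hLn x (D.hCG hx)) hh
  rw [show s * (l * c) * s⁻¹ * (l * c)⁻¹ = (s * l * s⁻¹) * ((s * c * s⁻¹) * c⁻¹) * l⁻¹ by group,
    D.fixed hc hs, mul_inv_cancel, mul_one]
  exact L.mul_mem (D.hSL s hs l hl) (L.inv_mem hl)

theorem Setting.hSH (D : Setting G S C K L H) : Normalises S H := by
  intro s hs h hh
  have := H.mul_mem (D.hLH (D.hHS h hh s hs)) hh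
  simpa using this

/-- The subgroup `[K, S] L`. -/
theorem Setting.exists_kernel (D : Setting G S C K L H) :
    ∃ K₀ : Subgroup Γ, L ≤ K₀ ∧ K₀ ≤ K ∧ Normalises G K₀ ∧ Normalises S K₀ ∧
      (∀ g ∈ G, ∃ k ∈ K₀, ∃ c ∈ C, g = k * c) ∧ K₀ ⊓ H ≤ L ∧
      ∀ K₁ : Subgroup Γ, L ≤ K₁ → K₁ ≤ K₀ → ∀ f : K₁ →* ℂˣ, (∀ l : K₁, (l : Γ) ∈ L → f l = 1) →
        ∀ (k : K₁) (g : S → K₁), (∀ s, (g s : Γ) = (s : Γ)⁻¹ * k * s) → ∏ s, f (g s) = 1 := by
  classical
  set K₀ := ⁅K, S⁆ ⊔ L with hK₀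
  have hKSn : S ≤ Subgroup.normalizer (K : Set Γ) := le_normalizer_of_normalises D.hSK
  have hcle : ⁅K, S⁆ ≤ K := Coprime.commutator_le_of_le_normalizer hKSn
  have hK₀K : K₀ ≤ K := sup_le hcle D.hLK
  have hsolvK : Group.IsSolvable K := by haveI := D.hsolv; exact Coprime.isSolvable_of_le D.hKG
  have hcommS : Normalises G ⁅K, S⁆ := by
    have hCn : C ≤ Subgroup.normalizer ((⁅K, S⁆ : Subgroup Γ) : Set Γ) := by
      refine le_normalizer_of_normalises fun c hc x hx => ?_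
      have hle : (⁅K, S⁆).map (MulAut.conj c).toMonoidHom ≤ ⁅K, S⁆ := by
        rw [Subgroup.map_commutator]
        refine Subgroup.commutator_mono ?_ ?_
        · rintro _ ⟨k, hk, rfl⟩; exact D.hKn c (D.hCG hc) k hk
        · rintro _ ⟨s, hs, rfl⟩
          show c * s * c⁻¹ ∈ S
          have h := D.fixed hc hs
          rw [mul_inv_eq_iff_eq_mul] at h
          rw [← h, mul_inv_cancel_right]
          exact hs
      exact hle ⟨x, hx, rfl⟩
    intro g hg x hx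
    refine (Subgroup.mem_normalizer_iff.1 (?_ : g ∈ Subgroup.normalizer
      ((⁅K, S⁆ : Subgroup Γ) : Set Γ)) x).1 hx
    rw [← D.hGKC] at hg
    exact (sup_le ((le_sup_left).trans (Coprime.sup_le_normalizer_commutator K S)) hCn) hg
  have hK₀n : Normalises G K₀ := by
    intro g hg x hx
    have hle : K₀.map (MulAut.conj g).toMonoidHom ≤ K₀ := by
      rw [hK₀, Subgroup.map_sup]
      refine sup_le_sup ?_ ?_
      · rintro _ ⟨y, hy, rfl⟩; exact hcommS g hg y hy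
      · rintro _ ⟨y, hy, rfl⟩; exact D.hLn g hg y hy
    exact hle ⟨x, hx, rfl⟩
  have hSK₀ : Normalises S K₀ := by
    intro s hs x hx
    have hle : K₀.map (MulAut.conj s).toMonoidHom ≤ K₀ := by
      rw [hK₀, Subgroup.map_sup]
      refine sup_le_sup ?_ ?_
      · rintro _ ⟨y, hy, rfl⟩
        exact (Subgroup.mem_normalizer_iff.1
          (Subgroup.normalizer_commutator_ge_right K S hs) y).1 hy
      · rintro _ ⟨y, hy, rfl⟩; exact D.hSL s hs y hy
    exact hle ⟨x, hx, rfl⟩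
  have hgen : ∀ g ∈ G, ∃ k ∈ K₀, ∃ c ∈ C, g = k * c := by
    have hle : G ≤ K₀ ⊔ C := by
      rw [← D.hGKC]
      refine sup_le ?_ le_sup_right
      have hKC : K ⊓ Subgroup.centralizer (S : Set Γ) ≤ C :=
        D.hC ▸ inf_le_inf_right _ D.hKG
      calc K = ⁅K, S⁆ ⊔ (K ⊓ Subgroup.centralizer (S : Set Γ)) :=
            (Coprime.commutator_sup_centralizer hKSn
              (D.hcop.coprime_dvd_left (Subgroup.card_dvd_of_le D.hKG)).symm
              (Or.inr hsolvK)).symm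
        _ ≤ K₀ ⊔ C := sup_le_sup le_sup_left hKC
    intro g hg
    obtain ⟨k, hk, c, hc, h⟩ := Coprime.exists_mul_of_mem_sup
      (le_normalizer_of_normalises fun x hx => hK₀n x (D.hCG hx)) (hle hg)
    exact ⟨k, hk, c, hc, h.symm⟩
  -- the norm into `K ⧸ L`
  set LK := L.subgroupOf K with hLK
  haveI : LK.Normal := ⟨fun n hn k => D.hLn k (D.hKG k.2) n hn⟩
  have hcomm : ∀ a b : K ⧸ LK, a * b = b * a := fun a b => by
    induction a using QuotientGroup.induction_on with | H a => ?_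
    induction b using QuotientGroup.induction_on with | H b => ?_
    rw [← QuotientGroup.mk_mul, ← QuotientGroup.mk_mul, QuotientGroup.eq]
    show ((a : Γ) * b)⁻¹ * ((b : Γ) * a) ∈ L
    simpa [mul_assoc] using D.hab _ (K.inv_mem b.2) _ (K.inv_mem a.2)
  letI : CommGroup (K ⧸ LK) := { (inferInstance : Group (K ⧸ LK)) with mul_comm := hcomm }
  let mk : K →* K ⧸ LK := QuotientGroup.mk' LK
  let N : K →* K ⧸ LK := ∏ s : S, mk.comp (conjAut D.hSK s).toMonoidHom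
  have hN : ∀ k, N k = ∏ s : S, mk (conjAut D.hSK s k) := fun k => MonoidHom.finsetProd_apply _ _ _
  have hNinv : ∀ (t : S) (k : K), N (conjAut D.hSK t k) = N k := fun t k => by
    rw [hN, hN]
    refine Fintype.prod_equiv (Equiv.mulRight t) _ _ fun s => congrArg mk (Subtype.ext ?_)
    rw [conjAut_apply, conjAut_apply, conjAut_apply, Equiv.coe_mulRight, Subgroup.coe_mul]
    group
  have hNker : K₀ ≤ (N.ker.map K.subtype) := by
    rw [hK₀]
    refine sup_le (Subgroup.commutator_le.2 fun k hk s hs => ?_) fun l hl => ?_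
    · have hmem : k * (s * k⁻¹ * s⁻¹) ∈ K := K.mul_mem hk (D.hSK s hs _ (K.inv_mem hk))
      refine ⟨⟨k, hk⟩ * conjAut D.hSK ⟨s, hs⟩ (⟨k, hk⟩ : K)⁻¹, ?_, ?_⟩
      · rw [SetLike.mem_coe, MonoidHom.mem_ker, map_mul, hNinv, map_inv, mul_inv_cancel]
      · show ((⟨k, hk⟩ : K) : Γ) * (conjAut D.hSK ⟨s, hs⟩ (⟨k, hk⟩ : K)⁻¹ : K) = ⁅k, s⁆
        rw [conjAut_apply, commutatorElement_def]
        show k * (s * k⁻¹ * s⁻¹) = _
        group
    · refine ⟨⟨l, D.hLK hl⟩, ?_, rfl⟩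
      rw [SetLike.mem_coe, MonoidHom.mem_ker, hN]
      exact Finset.prod_eq_one fun s _ =>
        (QuotientGroup.eq_one_iff _).2 (show _ ∈ L from D.hSL s s.2 l hl)
  have hNzero : ∀ k : K, (k : Γ) ∈ K₀ → N k = 1 := fun k hk => by
    obtain ⟨k', hk', he⟩ := hNker hk
    rwa [show k' = k from Subtype.ext he] at hk'
  refine ⟨K₀, le_sup_right, hK₀K, hK₀n, hSK₀, hgen, ?_, ?_⟩
  · rintro x ⟨hxK₀, hxH⟩
    have hxH' : x ∈ L ⊔ C := D.hH ▸ hxH
    obtain ⟨l, hl, c, hc, rfl⟩ := Coprime.exists_mul_of_mem_sup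
      (le_normalizer_of_normalises fun y hy => D.hLn y (D.hCG hy)) hxH'
    refine L.mul_mem hl ?_
    have hcK₀ : c ∈ K₀ := by
      have := K₀.mul_mem (K₀.inv_mem ((le_sup_right : L ≤ K₀) hl)) hxK₀
      rwa [inv_mul_cancel_left] at this
    have h1 := hNzero ⟨c, hK₀K hcK₀⟩ hcK₀
    rw [hN, Finset.prod_congr rfl fun s _ => show mk (conjAut D.hSK s ⟨c, hK₀K hcK₀⟩) =
        mk ⟨c, hK₀K hcK₀⟩ from congrArg mk (Subtype.ext (D.fixed hc s.2)), Finset.prod_const,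
      Finset.card_univ, ← Nat.card_eq_fintype_card] at h1
    have hco : (Nat.card S).Coprime (Nat.card (K ⧸ LK)) :=
      (D.hcop.coprime_dvd_left ((Subgroup.card_quotient_dvd_card LK).trans
        (Subgroup.card_dvd_of_le D.hKG))).symm
    have h2 : mk ⟨c, hK₀K hcK₀⟩ = 1 := by
      rw [← orderOf_eq_one_iff]
      exact Nat.eq_one_of_dvd_coprimes hco (orderOf_dvd_of_pow_eq_one h1) (orderOf_dvd_natCard _)
    exact (QuotientGroup.eq_one_iff (⟨c, hK₀K hcK₀⟩ : K)).1 h2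
  · intro K₁ hLK₁ hK₁ f hf k g hg
    let ι₁ : K₁ →* K ⧸ LK := mk.comp (Subgroup.inclusion (hK₁.trans hK₀K))
    have hker : ι₁.ker ≤ f.ker := fun x hx => hf x ((QuotientGroup.eq_one_iff _).1 hx :)
    have h1 : ∀ s, ι₁ (g s) = mk ((conjAut D.hSK s).symm (Subgroup.inclusion (hK₁.trans hK₀K) k)) :=
      fun s => congrArg mk (Subtype.ext (hg s))
    let q : K₁ →* K₁ ⧸ ι₁.ker := QuotientGroup.mk' _
    have hker' : ι₁.ker ≤ f.ker := hker
    let fb : K₁ ⧸ ι₁.ker →* ℂˣ := QuotientGroup.lift _ f hker'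
    have hinj := QuotientGroup.kerLift_injective ι₁
    letI : CommGroup (K₁ ⧸ ι₁.ker) :=
      { (inferInstance : Group (K₁ ⧸ ι₁.ker)) with
        mul_comm := fun a b => hinj (by rw [map_mul, map_mul]; exact hcomm _ _) }
    have h2 : QuotientGroup.kerLift ι₁ (∏ s, q (g s)) = 1 := by
      rw [map_prod]
      show ∏ s, ι₁ (g s) = 1
      rw [Finset.prod_congr rfl fun s _ => h1 s,
        ← hNzero (Subgroup.inclusion (hK₁.trans hK₀K) k) (hK₁ k.2), hN]
      refine Fintype.prod_equiv (Equiv.inv S) _ _ fun s => congrArg mk (Subtype.ext ?_)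
      rw [conjAut_symm_apply, conjAut_apply, Equiv.inv_apply, Subgroup.coe_inv, inv_inv]
    have h3 : (∏ s, q (g s)) = 1 := hinj (h2.trans (map_one _).symm)
    have h4 := congrArg fb h3
    rw [map_prod, map_one] at h4
    exact h4

/-- The data inside the inertia group of an invariant `θ`. -/
structure Loc (G S C K L H T K₁ : Subgroup Γ) (θ : IrrCharacter L) : Prop where
  inertia : IsInertia G L T (θ : L → ℂ)
  hST : Normalises S T
  hLK₁ : L ≤ K₁
  hK₁T : K₁ ≤ T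
  core : ∀ φ : IrrCharacter K₁, PInv S K₁ (φ : K₁ → ℂ) → multNat hLK₁ φ θ ≠ 0 →
    CoreData T S K₁ L (T ⊓ H) φ θ
  phi_unique : ∀ φ φ' : IrrCharacter K₁, PInv S K₁ (φ : K₁ → ℂ) → multNat hLK₁ φ θ ≠ 0 →
    PInv S K₁ (φ' : K₁ → ℂ) → multNat hLK₁ φ' θ ≠ 0 → φ' = φ
  phi_exists : ∃ φ : IrrCharacter K₁, PInv S K₁ (φ : K₁ → ℂ) ∧ multNat hLK₁ φ θ ≠ 0
  phi_below : ∀ τ : IrrCharacter T, PInv S T (τ : T → ℂ) → multNat inertia.base τ θ ≠ 0 →
    ∃ φ : IrrCharacter K₁, PInv S K₁ (φ : K₁ → ℂ) ∧ multNat hLK₁ φ θ ≠ 0 ∧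
      multNat hK₁T τ φ ≠ 0

theorem pInv_conjugate {P A : Subgroup Γ} (hPA : Normalises P A) {Q : Subgroup Γ}
    (hQA : Normalises Q A) (φ : IrrCharacter A) (hφ : PInv Q A (φ : A → ℂ)) (c : P)
    (hc : ∀ q ∈ Q, q * c * q⁻¹ = c) :
    PInv Q A (((irrAction hPA).smul c φ : IrrCharacter A) : A → ℂ) := by
  intro q hq k k' hk
  rw [irrAction_apply, irrAction_apply]
  refine hφ q hq _ _ ?_
  show (c : Γ)⁻¹ * k' * c = q * ((c : Γ)⁻¹ * k * c) * q⁻¹
  have h1 : q * (c : Γ) = c * q := mul_inv_eq_iff_eq_mul.1 (hc q hq)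
  have h2 : q * (c : Γ)⁻¹ = (c : Γ)⁻¹ * q := (Commute.inv_right (h1 : Commute q (c : Γ))).eq
  have h3 : q⁻¹ * (c : Γ) = c * q⁻¹ := (Commute.inv_left (h1 : Commute q (c : Γ))).eq
  rw [hk]
  calc (c : Γ)⁻¹ * (q * k * q⁻¹) * c = ((c : Γ)⁻¹ * q) * k * (q⁻¹ * c) := by group
    _ = (q * (c : Γ)⁻¹) * k * (c * q⁻¹) := by rw [h2, h3]
    _ = _ := by group

/-- The local data exist. -/
theorem Setting.exists_loc (D : Setting G S C K L H) (θ : IrrCharacter L)
    (hθ : PInv S L (θ : L → ℂ)) : ∃ T K₁ : Subgroup Γ, Loc G S C K L H T K₁ θ := by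
  classical
  obtain ⟨K₀, hLK₀, hK₀K, hK₀n, hSK₀, hgen, hinf, hprod⟩ := D.exists_kernel
  obtain ⟨T, hT⟩ := exists_inertia D.hLG D.hLn θ
  have hST : Normalises S T := by
    intro s hs t ht
    refine (hT.mem_iff _ (D.hSG s hs t (hT.le ht))).2 fun l l' hl => ?_
    have h1 : s⁻¹ * l * s ∈ L := by simpa using D.hSL _ (S.inv_mem hs) _ l.2
    have h2 : t * (s⁻¹ * l * s) * t⁻¹ ∈ L := D.hLn t (hT.le ht) _ h1
    rw [hθ s hs ⟨_, h2⟩ l' (by rw [hl]; show _ = s * (t * (s⁻¹ * l * s) * t⁻¹) * s⁻¹; group),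
      (hT.mem_iff t (hT.le ht)).1 ht ⟨_, h1⟩ ⟨_, h2⟩ rfl]
    exact (hθ s hs ⟨_, h1⟩ l (by show (l : Γ) = s * (s⁻¹ * l * s) * s⁻¹; group)).symm
  set K₁ := T ⊓ K₀ with hK₁
  have hLK₁ : L ≤ K₁ := le_inf hT.base hLK₀
  have hK₁n : Normalises T K₁ := fun t ht x hx =>
    ⟨normalises_self T t ht x hx.1, hK₀n t (hT.le ht) x hx.2⟩
  have hSK₁ : Normalises S K₁ := fun s hs x hx => ⟨hST s hs x hx.1, hSK₀ s hs x hx.2⟩
  have hK₁G : K₁ ≤ G := inf_le_left.trans hT.le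
  have hab : ∀ a ∈ K₁, ∀ b ∈ K₁, a * b * a⁻¹ * b⁻¹ ∈ L := fun a ha b hb =>
    D.hab a (hK₀K ha.2) b (hK₀K hb.2)
  have hLn₁ : Normalises K₁ L := fun x hx => D.hLn x (hK₁G hx)
  have hcop₁ : (Nat.card K₁).Coprime (Nat.card S) :=
    D.hcop.coprime_dvd_left (Subgroup.card_dvd_of_le hK₁G)
  have hgenT : ∀ t ∈ T, ∃ k ∈ K₁, ∃ c, c ∈ C ∧ c ∈ T ∧ t = k * c := by
    intro t ht
    obtain ⟨k, hk, c, hc, hkc⟩ := hgen t (hT.le ht)
    have hsolv₁ : Group.IsSolvable K₁ := by haveI := D.hsolv; exact Coprime.isSolvable_of_le hK₁G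
    obtain ⟨c', hc', hk'⟩ := Coprime.exists_fixed_mem_coset (A := S) (N := K₁)
      (le_normalizer_of_normalises hSK₁) hcop₁.symm (Or.inr hsolv₁) (k := t⁻¹) (fun s hs => by
        rw [inv_inv]
        refine ⟨T.mul_mem ht (hST s hs _ (T.inv_mem ht)), ?_⟩
        rw [show t * (s * t⁻¹ * s⁻¹) = k * (c * (s * c⁻¹ * s⁻¹)) * (s * k⁻¹ * s⁻¹) by
          rw [hkc]; group, D.fixed (C.inv_mem hc) hs, mul_inv_cancel, mul_one]
        exact K₀.mul_mem hk (hSK₀ s hs _ (K₀.inv_mem hk)))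
    rw [inv_inv] at hk'
    have hcT : c' ∈ T := by simpa using T.mul_mem (T.inv_mem ht) hk'.1
    exact ⟨t * c', hk', c'⁻¹, C.inv_mem (D.hC ▸ ⟨hT.le hcT, hc'⟩), T.inv_mem hcT, by group⟩
  -- uniqueness of the invariant character over `θ`
  have huniq : ∀ φ φ' : IrrCharacter K₁, PInv S K₁ (φ : K₁ → ℂ) → multNat hLK₁ φ θ ≠ 0 →
      PInv S K₁ (φ' : K₁ → ℂ) → multNat hLK₁ φ' θ ≠ 0 → φ' = φ := by
    intro φ φ' hφ hφθ hφ' hφ'θ
    obtain ⟨l, hl, hlφ⟩ := exists_twist hLK₁ hLn₁ hab φ φ' hφθ hφ'θ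
    let St : Subgroup (K₁ →* ℂˣ) :=
      { carrier := {m | ∀ a, (φ : K₁ → ℂ) a * (m a : ℂ) = (φ : K₁ → ℂ) a}
        one_mem' := fun a => by simp
        mul_mem' := fun {m m'} hm hm' a => by
          rw [MonoidHom.mul_apply, Units.val_mul, ← mul_assoc, hm a, hm' a]
        inv_mem' := fun {m} hm a => by
          have := congrArg (· * ((m a)⁻¹ : ℂˣ).val) (hm a)
          simp only [mul_assoc, Units.mul_inv, mul_one] at this
          rw [MonoidHom.inv_apply, ← this] }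
    have hdiff : ∀ s : S, l.comp (conjAutInv hSK₁ s).toMonoidHom * l⁻¹ ∈ St := by
      intro s a
      have h1 : (φ' : K₁ → ℂ) (conjAutInv hSK₁ s a) = (φ' : K₁ → ℂ) a :=
        (hφ' _ s.2 (conjAutInv hSK₁ s a) a (by simp [conjAutInv, mul_assoc])).symm
      rw [hlφ, hlφ, ← hφ _ s.2 (conjAutInv hSK₁ s a) a (by simp [conjAutInv, mul_assoc])] at h1
      rw [MonoidHom.mul_apply, MonoidHom.inv_apply, Units.val_mul, ← mul_assoc]
      show (φ : K₁ → ℂ) a * (l (conjAutInv hSK₁ s a) : ℂ) * _ = _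
      rw [h1, mul_assoc, Units.mul_inv, mul_one]
    have hall : (∏ s : S, l.comp (conjAutInv hSK₁ s).toMonoidHom) = 1 := MonoidHom.ext fun a => by
      rw [MonoidHom.finsetProd_apply, MonoidHom.one_apply]
      exact hprod K₁ hLK₁ inf_le_right l hl a _ fun s => rfl
    have hpow : (l ^ Nat.card S)⁻¹ ∈ St := by
      have h : ∏ s : S, l.comp (conjAutInv hSK₁ s).toMonoidHom * l⁻¹ ∈ St :=
        Subgroup.prod_mem St fun s _ => hdiff s
      have e : (l ^ Nat.card S)⁻¹ = ∏ s : S, l.comp (conjAutInv hSK₁ s).toMonoidHom * l⁻¹ :=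
        MonoidHom.ext fun a => by
          rw [MonoidHom.finsetProd_apply, MonoidHom.inv_apply, MonoidHom.pow_apply]
          simp only [MonoidHom.mul_apply, MonoidHom.inv_apply]
          rw [Finset.prod_mul_distrib, ← MonoidHom.finsetProd_apply, hall, MonoidHom.one_apply,
            Finset.prod_const, Finset.card_univ, ← Nat.card_eq_fintype_card, inv_pow, one_mul]
      exact e ▸ h
    have hlK : l ^ Nat.card K₁ = 1 := MonoidHom.ext fun a => by
      rw [MonoidHom.pow_apply, ← map_pow, pow_card_eq_one', map_one, MonoidHom.one_apply]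
    have hlSt : l ∈ St := mem_of_pow_mem St hcop₁.symm (St.inv_mem_iff.1 hpow) hlK
    exact Subtype.ext (funext fun a => (hlφ a).trans (hlSt a))
  have hbelow : ∀ τ : IrrCharacter T, PInv S T (τ : T → ℂ) → multNat hT.base τ θ ≠ 0 →
      ∃ φ : IrrCharacter K₁, PInv S K₁ (φ : K₁ → ℂ) ∧ multNat hLK₁ φ θ ≠ 0 ∧
        multNat (inf_le_left : K₁ ≤ T) τ φ ≠ 0 := by
    intro τ hτ hτθ
    haveI := D.hsolv
    obtain ⟨φ, hφ, hφτ⟩ := exists_inv_below_of_solvable inf_le_left hK₁n hST hSK₁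
      (D.hcop.coprime_dvd_left (Subgroup.card_dvd_of_le hT.le)) (Coprime.isSolvable_of_le hT.le)
      τ hτ
    refine ⟨φ, hφ, ?_, hφτ⟩
    obtain ⟨η, hη⟩ := exists_below hLK₁ φ
    rwa [show η = θ from ?_] at hη
    have h1 := multNat_ne_zero_trans inf_le_left hLK₁ hφτ hη
    by_contra hne
    apply h1
    apply multNat_unique
    rw [multRes_eq_classInner, show (fun l : L => (τ : T → ℂ) (Subgroup.inclusion hT.base l)) =
      (multNat hT.base τ θ : ℂ) • (θ : L → ℂ) from funext fun l => res_eq_smul hT.base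
        (fun x hx => D.hLn x (hT.le hx))
        (fun x hx l l' h => (hT.mem_iff x (hT.le hx)).1 hx l l' h) hτθ l,
      classInner_smul_left, classInner_isIrr_ne θ.2 η.2 fun h => hne (Subtype.ext h.symm)]
    simp
  refine ⟨T, K₁, ⟨hT, hST, hLK₁, inf_le_left, fun φ hφ hφθ => ?_, huniq,
    exists_inv_above_comm' hLK₁ hLn₁ hSK₁ D.hSL hcop₁ hab θ hθ, hbelow⟩⟩
  have hTφ : PInv T K₁ (φ : K₁ → ℂ) := by
    rw [pInv_iff_fixed hK₁n]
    intro t
    letI := irrAction hK₁n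
    obtain ⟨k, hk, c, hc, hcT, htkc⟩ := hgenT t t.2
    have h1 : (⟨c, hcT⟩ : T) • φ = φ := by
      refine huniq φ _ hφ hφθ (pInv_conjugate hK₁n hSK₁ φ hφ ⟨c, hcT⟩ fun q hq => D.fixed hc hq) ?_
      have hTL : Normalises T L := fun x hx => D.hLn x (hT.le hx)
      have hθT : PInv T L (θ : L → ℂ) := fun x hx l l' h => (hT.mem_iff x (hT.le hx)).1 hx l l' h
      rw [← (pInv_iff_fixed hTL θ).1 hθT ⟨c, hcT⟩]
      show multNat hLK₁ ((irrAction hK₁n).smul _ φ) ((irrAction hTL).smul _ θ) ≠ 0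
      rw [multNat_smul hK₁n hTL]
      exact hφθ
    have h2 : (⟨k, inf_le_left (a := T) hk⟩ : T) • φ = φ :=
      (irrAction_eq_self_iff hK₁n _ φ).2 (pInv_self φ k hk)
    show t • φ = φ
    rw [show t = (⟨k, inf_le_left (a := T) hk⟩ : T) * ⟨c, hcT⟩ from Subtype.ext htkc, mul_smul,
      h1, h2]
  exact {
    hLK := hLK₁
    hKG := inf_le_left
    hLH := le_inf hT.base D.hLH
    hHG := inf_le_left
    hKn := hK₁n
    hLn := fun x hx => D.hLn x (hT.le hx)
    hSK := hSK₁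
    hSL := D.hSL
    hab := hab
    hinf := fun x hx => hinf ⟨hx.1.2, hx.2.2⟩
    hgen := fun t ht => by
      obtain ⟨k, hk, c, hc, hcT, h⟩ := hgenT t ht
      exact ⟨k, hk, c, ⟨hcT, D.hCH hc⟩, h⟩
    hodd := D.hodd.of_dvd_nat (Subgroup.card_dvd_of_le hT.le)
    hcop := hcop₁.symm
    hHS := fun h hh => D.hHS h hh.2
    hprod := hprod K₁ hLK₁ inf_le_right
    hφG := hTφ
    hφS := hφ
    hθG := fun x hx l l' h => (hT.mem_iff x (hT.le hx)).1 hx l l' h
    hφθ := hφθ }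

/-- Multiplicities are those of the Clifford correspondents. -/
theorem mult_transfer {G L T H : Subgroup Γ} {θ : IrrCharacter L}
    (hT : IsInertia G L T (θ : L → ℂ)) (hHG : H ≤ G) (hLH : L ≤ H) {χ : IrrCharacter G}
    {τ : IrrCharacter T} {ψ : IrrCharacter H} {ξ : IrrCharacter (T ⊓ H : Subgroup Γ)}
    (hτθ : multNat hT.base τ θ ≠ 0) (hχτ : multNat hT.le χ τ ≠ 0)
    (hξθ : multNat (le_inf hT.base hLH) ξ θ ≠ 0)
    (hψξ : multNat (inf_le_right : T ⊓ H ≤ H) ψ ξ ≠ 0) :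
    multNat hHG χ ψ = multNat (inf_le_left : T ⊓ H ≤ T) τ ξ := by
  classical
  rw [← hT.mult_eq hτθ hχτ (le_inf hT.base hLH) inf_le_left hξθ,
    show multNat ((inf_le_left : T ⊓ H ≤ T).trans hT.le) χ ξ =
      multNat ((inf_le_right : T ⊓ H ≤ H).trans hHG) χ ξ from rfl,
    multNat_trans (inf_le_right : T ⊓ H ≤ H) hHG]
  have hI := hT.inf hHG hLH
  obtain ⟨ξ₁, -, h1, hu⟩ := hI.exists_below ψ (multNat_ne_zero_trans _ hI.base hψξ hξθ)
  obtain rfl := hu ξ hψξ hξθ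
  rw [Finset.sum_eq_single ψ]
  · rw [h1, mul_one]
  · intro η _ hne
    by_contra h0
    exact hne (hI.unique_above hξθ (right_ne_zero_of_mul h0) hψξ)
  · simp

/-- Invariant constituents on `L` are conjugate under `C`. -/
theorem Setting.exists_conj (D : Setting G S C K L H) (χ : IrrCharacter G) {θ θ' : IrrCharacter L}
    (hθ : PInv S L (θ : L → ℂ)) (hθ' : PInv S L (θ' : L → ℂ))
    (h : multNat D.hLG χ θ ≠ 0) (h' : multNat D.hLG χ θ' ≠ 0) :
    ∃ c ∈ H, ∀ l l' : L, (l' : Γ) = c * l * c⁻¹ → (θ' : L → ℂ) l' = (θ : L → ℂ) l := by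
  classical
  haveI : (L.subgroupOf G).Normal := ⟨fun n hn g => D.hLn g g.2 n hn⟩
  haveI : Fintype (L.subgroupOf G) := Fintype.ofFinite _
  let e : L.subgroupOf G ≃* L := Subgroup.subgroupOfEquivOfLe D.hLG
  have key : ∀ η : IrrCharacter L, multNat D.hLG χ η ≠ 0 → Cfsg.classInner
      (fun n : L.subgroupOf G => (χ : G → ℂ) n) (fun n => (η : L → ℂ) (e n)) ≠ 0 := by
    intro η hη h0
    refine hη (multNat_unique D.hLG ?_)
    rw [Nat.cast_zero, multRes_eq_classInner, ← CharactersDeep.Clifford.classInner_comp_equiv e]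
    exact h0
  obtain ⟨g, hg⟩ := CharactersDeep.Clifford.exists_conjBy_of_constituents (L.subgroupOf G) χ.2
    (Characters.isIrr_comp e.toMonoidHom e.surjective θ.2)
    (Characters.isIrr_comp e.toMonoidHom e.surjective θ'.2) (key θ h) (key θ' h')
  have hval : ∀ l l' : L, (l' : Γ) = g * l * (g : Γ)⁻¹ → (θ : L → ℂ) l' = (θ' : L → ℂ) l := by
    intro l l' hl
    have h1 := congrFun hg (e.symm l)
    rw [OddOrderChar.conjBy_apply] at h1
    simp only [MulEquiv.coe_toMonoidHom, MulEquiv.apply_symm_apply] at h1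
    rw [h1]
    exact congrArg _ (Subtype.ext hl)
  obtain ⟨T, hT⟩ := exists_inertia D.hLG D.hLn θ
  have hST : Normalises S T := by
    intro s hs t ht
    refine (hT.mem_iff _ (D.hSG s hs t (hT.le ht))).2 fun l l' hl => ?_
    have h1 : s⁻¹ * l * s ∈ L := by simpa using D.hSL _ (S.inv_mem hs) _ l.2
    have h2 : t * (s⁻¹ * l * s) * t⁻¹ ∈ L := D.hLn t (hT.le ht) _ h1
    rw [hθ s hs ⟨_, h2⟩ l' (by rw [hl]; show _ = s * (t * (s⁻¹ * l * s) * t⁻¹) * s⁻¹; group),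
      (hT.mem_iff t (hT.le ht)).1 ht ⟨_, h1⟩ ⟨_, h2⟩ rfl]
    exact (hθ s hs ⟨_, h1⟩ l (by show (l : Γ) = s * (s⁻¹ * l * s) * s⁻¹; group)).symm
  have hsolvT : Group.IsSolvable T := by haveI := D.hsolv; exact Coprime.isSolvable_of_le hT.le
  obtain ⟨c, hc, hgc⟩ := Coprime.exists_fixed_mem_coset (A := S) (N := T)
    (le_normalizer_of_normalises hST)
    (D.hcop.coprime_dvd_left (Subgroup.card_dvd_of_le hT.le)).symm (Or.inr hsolvT)
    (k := (g : Γ)⁻¹) (fun s hs => by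
      rw [inv_inv]
      have hg' : (g : Γ) * (s * (g : Γ)⁻¹ * s⁻¹) ∈ G :=
        G.mul_mem g.2 (D.hSG s hs _ (G.inv_mem g.2))
      refine (hT.mem_iff _ hg').2 fun l l' hl => ?_
      have h1 : s⁻¹ * l * s ∈ L := by simpa using D.hSL _ (S.inv_mem hs) _ l.2
      have h2 : (g : Γ)⁻¹ * (s⁻¹ * l * s) * g ∈ L := by
        simpa using D.hLn _ (G.inv_mem g.2) _ h1
      have h3 : s * ((g : Γ)⁻¹ * (s⁻¹ * l * s) * g) * s⁻¹ ∈ L := D.hSL s hs _ h2
      rw [hval ⟨_, h3⟩ l' (by rw [hl]; show _ = (g : Γ) * (s * _ * s⁻¹) * (g : Γ)⁻¹; group),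
        hθ' s hs ⟨_, h2⟩ ⟨_, h3⟩ rfl,
        ← hval ⟨_, h2⟩ ⟨_, h1⟩ (by show _ = (g : Γ) * _ * (g : Γ)⁻¹; group)]
      exact (hθ s hs ⟨_, h1⟩ l (by show (l : Γ) = s * (s⁻¹ * l * s) * s⁻¹; group)).symm)
  rw [inv_inv] at hgc
  have hcG : c ∈ G := by simpa using G.mul_mem (G.inv_mem g.2) (hT.le hgc)
  refine ⟨c, D.hCH (D.hC ▸ ⟨hcG, hc⟩), fun l l' hl => ?_⟩
  have hgl : (g : Γ) * l' * (g : Γ)⁻¹ ∈ L := D.hLn g g.2 _ l'.2
  rw [← hval l' ⟨_, hgl⟩ rfl]
  refine (hT.mem_iff _ (hT.le hgc)).1 hgc l ⟨_, hgl⟩ ?_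
  show (g : Γ) * l' * (g : Γ)⁻¹ = g * c * l * ((g : Γ) * c)⁻¹
  rw [hl]; group

/-- The Clifford correspondent of an invariant character is invariant. -/
theorem exists_below_inv {G L T S : Subgroup Γ} {θ : IrrCharacter L}
    (hT : IsInertia G L T (θ : L → ℂ)) (hSG : Normalises S G) (hSL : Normalises S L)
    (hST : Normalises S T) (hθ : PInv S L (θ : L → ℂ)) (χ : IrrCharacter G)
    (hχ : PInv S G (χ : G → ℂ)) (h : multNat (hT.base.trans hT.le) χ θ ≠ 0) :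
    ∃ τ : IrrCharacter T, PInv S T (τ : T → ℂ) ∧ multNat hT.base τ θ ≠ 0 ∧
      multNat hT.le χ τ ≠ 0 := by
  obtain ⟨τ, h1, h2, hu⟩ := hT.exists_below χ h
  refine ⟨τ, (pInv_iff_fixed hST τ).2 fun s => hu _ ?_ ?_, h1, by rw [h2]; exact one_ne_zero⟩
  · rw [← (pInv_iff_fixed hSG χ).1 hχ s, multNat_smul hSG hST hT.le, h2]
    exact one_ne_zero
  · have h3 := (multNat_smul hST hSL hT.base s τ θ).trans_ne h1
    have e := (pInv_iff_fixed hSL θ).1 hθ s
    intro h0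
    exact h3 ((congrArg (multNat hT.base ((irrAction hST).smul s τ)) e).trans h0)

/-- The correspondence. -/
theorem correspondence (D : Setting G S C K L H) :
    (∀ χ : IrrCharacter G, PInv S G (χ : G → ℂ) →
      ∃! ψ : IrrCharacter H, PInv S H (ψ : H → ℂ) ∧ Odd (multNat D.hHG χ ψ)) ∧
    (∀ χ χ' : IrrCharacter G, PInv S G (χ : G → ℂ) → PInv S G (χ' : G → ℂ) →
      ∀ ψ : IrrCharacter H, PInv S H (ψ : H → ℂ) → Odd (multNat D.hHG χ ψ) →
        Odd (multNat D.hHG χ' ψ) → χ = χ') ∧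
    ∀ ψ : IrrCharacter H, PInv S H (ψ : H → ℂ) →
      ∃ χ : IrrCharacter G, PInv S G (χ : G → ℂ) ∧ Odd (multNat D.hHG χ ψ) := by
  classical
  haveI := D.hsolv
  have hLnH : Normalises H L := fun x hx => D.hLn x (D.hHG hx)
  have hcopH : (Nat.card H).Coprime (Nat.card S) :=
    D.hcop.coprime_dvd_left (Subgroup.card_dvd_of_le D.hHG)
  have hsolvH : Group.IsSolvable H := Coprime.isSolvable_of_le D.hHG
  refine ⟨fun χ hχ => ?_, fun χ χ' hχ hχ' ψ hψ ho ho' => ?_, fun ψ hψ => ?_⟩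
  · obtain ⟨θ, hθ, hχθ⟩ := exists_inv_below_of_solvable D.hLG D.hLn D.hSG D.hSL D.hcop D.hsolv χ hχ
    obtain ⟨T, K₁, Lc⟩ := D.exists_loc θ hθ
    have hI := Lc.inertia.inf D.hHG D.hLH
    have hSTH : Normalises S (T ⊓ H) := fun s hs x hx =>
      ⟨Lc.hST s hs x hx.1, D.hSH s hs x hx.2⟩
    obtain ⟨τ, hτ, hτθ, hχτ⟩ := exists_below_inv Lc.inertia D.hSG D.hSL Lc.hST hθ χ hχ hχθ
    obtain ⟨φ, hφ, hφθ, hτφ⟩ := Lc.phi_below τ hτ hτθ
    have CD := Lc.core φ hφ hφθ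
    obtain ⟨ξ, hξ, hξu⟩ := CD.existsUnique_odd.1 τ hτφ
    have hξ : Odd (multNat (inf_le_left : T ⊓ H ≤ T) τ ξ) := hξ
    have hover : ∀ η : IrrCharacter (T ⊓ H : Subgroup Γ), Odd (multNat CD.hHG τ η) →
        multNat CD.hLH η θ ≠ 0 := by
      intro η hη
      obtain ⟨η', hη'⟩ := exists_below CD.hLH η
      rwa [show η' = θ from ?_] at hη'
      have h1 := multNat_ne_zero_trans CD.hHG CD.hLH hη.pos.ne' hη'
      by_contra hne
      apply h1
      apply multNat_unique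
      rw [multRes_eq_classInner, show (fun l : L => (τ : T → ℂ)
        (Subgroup.inclusion (CD.hLH.trans CD.hHG) l)) =
        (multNat Lc.inertia.base τ θ : ℂ) • (θ : L → ℂ) from funext fun l =>
          res_eq_smul Lc.inertia.base CD.hLn CD.hθG hτθ l,
        classInner_smul_left, classInner_isIrr_ne θ.2 η'.2 fun h => hne (Subtype.ext h.symm)]
      simp
    have hξθ := hover ξ hξ
    have hξS : PInv S (T ⊓ H) (ξ : (T ⊓ H : Subgroup Γ) → ℂ) := by
      refine (pInv_iff_fixed hSTH ξ).2 fun s => hξu _ ?_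
      show Odd (multNat _ τ _)
      rw [← (pInv_iff_fixed Lc.hST τ).1 hτ s, multNat_smul Lc.hST hSTH]
      exact hξ
    obtain ⟨ψ, hψξ⟩ := exists_over (inf_le_right : T ⊓ H ≤ H) ξ
    have hψS : PInv S H (ψ : H → ℂ) := by
      refine (pInv_iff_fixed D.hSH ψ).2 fun s => hI.unique_above hξθ ?_ hψξ
      rw [← (pInv_iff_fixed hSTH ξ).1 hξS s, multNat_smul D.hSH hSTH]
      exact hψξ
    have hm := mult_transfer Lc.inertia D.hHG D.hLH hτθ hχτ hξθ hψξ
    refine ⟨ψ, ⟨hψS, hm ▸ hξ⟩, fun ψ' ⟨hψ'S, hψ'o⟩ => ?_⟩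
    obtain ⟨θ', hθ', hψ'θ'⟩ := exists_inv_below_of_solvable D.hLH hLnH D.hSH D.hSL hcopH hsolvH
      ψ' hψ'S
    obtain ⟨c, hcH, hc⟩ := D.exists_conj χ hθ hθ' hχθ
      (multNat_ne_zero_trans D.hHG D.hLH hψ'o.pos.ne' hψ'θ')
    have hψ'θ : multNat D.hLH ψ' θ ≠ 0 := by
      have heq : (irrAction hLnH).smul ⟨c, hcH⟩ θ = θ' := Subtype.ext (funext fun l => by
        rw [irrAction_apply]
        refine (hc _ l ?_).symm
        show (l : Γ) = c * (c⁻¹ * l * c) * c⁻¹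
        group)
      rw [← heq, ← (pInv_iff_fixed (normalises_self H) ψ').1 (pInv_self ψ') ⟨c, hcH⟩,
        multNat_smul (normalises_self H) hLnH] at hψ'θ'
      exact hψ'θ'
    obtain ⟨ξ', hξ'θ, hψ'ξ', -⟩ := hI.exists_below ψ' hψ'θ
    have hψ'ξ'0 : multNat hI.le ψ' ξ' ≠ 0 := by rw [hψ'ξ']; exact one_ne_zero
    rw [mult_transfer Lc.inertia D.hHG D.hLH hτθ hχτ hξ'θ hψ'ξ'0] at hψ'o
    obtain rfl := hξu ξ' hψ'o
    exact hI.unique_above hξ'θ hψ'ξ'0 hψξ
  · obtain ⟨θ, hθ, hψθ⟩ := exists_inv_below_of_solvable D.hLH hLnH D.hSH D.hSL hcopH hsolvH ψ hψ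
    obtain ⟨T, K₁, Lc⟩ := D.exists_loc θ hθ
    have hI := Lc.inertia.inf D.hHG D.hLH
    obtain ⟨τ, hτ, hτθ, hχτ⟩ := exists_below_inv Lc.inertia D.hSG D.hSL Lc.hST hθ χ hχ
      (multNat_ne_zero_trans D.hHG D.hLH ho.pos.ne' hψθ)
    obtain ⟨τ', hτ', hτ'θ, hχτ'⟩ := exists_below_inv Lc.inertia D.hSG D.hSL Lc.hST hθ χ' hχ'
      (multNat_ne_zero_trans D.hHG D.hLH ho'.pos.ne' hψθ)
    obtain ⟨φ, hφ, hφθ, hτφ⟩ := Lc.phi_below τ hτ hτθ
    obtain ⟨φ', hφ', hφ'θ, hτ'φ'⟩ := Lc.phi_below τ' hτ' hτ'θ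
    obtain rfl := Lc.phi_unique φ φ' hφ hφθ hφ' hφ'θ
    obtain ⟨ξ, hξθ, hψξ, -⟩ := hI.exists_below ψ hψθ
    have hψξ0 : multNat hI.le ψ ξ ≠ 0 := by rw [hψξ]; exact one_ne_zero
    rw [mult_transfer Lc.inertia D.hHG D.hLH hτθ hχτ hξθ hψξ0] at ho
    rw [mult_transfer Lc.inertia D.hHG D.hLH hτ'θ hχτ' hξθ hψξ0] at ho'
    obtain rfl := (Lc.core _ hφ hφθ).existsUnique_odd.2 τ τ' hτφ hτ'φ' ξ ho ho'
    exact Lc.inertia.unique_above hτθ hχτ hχτ'
  · obtain ⟨θ, hθ, hψθ⟩ := exists_inv_below_of_solvable D.hLH hLnH D.hSH D.hSL hcopH hsolvH ψ hψ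
    obtain ⟨T, K₁, Lc⟩ := D.exists_loc θ hθ
    have hI := Lc.inertia.inf D.hHG D.hLH
    have hSTH : Normalises S (T ⊓ H) := fun s hs x hx =>
      ⟨Lc.hST s hs x hx.1, D.hSH s hs x hx.2⟩
    obtain ⟨ξ, hξS, hξθ, hψξ⟩ := exists_below_inv hI D.hSH D.hSL hSTH hθ ψ hψ hψθ
    obtain ⟨φ, hφ, hφθ⟩ := Lc.phi_exists
    have CD := Lc.core φ hφ hφθ
    obtain ⟨τ, hτφ, hτo⟩ := CD.exists_odd ξ hξθ
    have hτS : PInv S T (τ : T → ℂ) := by
      refine (pInv_iff_fixed Lc.hST τ).2 fun s => CD.existsUnique_odd.2 _ τ ?_ hτφ ξ ?_ hτo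
      · have h3 := (multNat_smul Lc.hST CD.hSK CD.hKG s τ φ).trans_ne hτφ
        have e := (pInv_iff_fixed CD.hSK φ).1 hφ s
        intro h0
        exact h3 ((congrArg (multNat CD.hKG ((irrAction Lc.hST).smul s τ)) e).trans h0)
      · rw [← (pInv_iff_fixed hSTH ξ).1 hξS s, multNat_smul Lc.hST hSTH]
        exact hτo
    have hτθ : multNat Lc.inertia.base τ θ ≠ 0 :=
      multNat_ne_zero_trans CD.hKG Lc.hLK₁ hτφ hφθ
    obtain ⟨χ, hχτ⟩ := exists_over Lc.inertia.le τ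
    refine ⟨χ, (pInv_iff_fixed D.hSG χ).2 fun s => Lc.inertia.unique_above hτθ ?_ hχτ, ?_⟩
    · rw [← (pInv_iff_fixed Lc.hST τ).1 hτS s, multNat_smul D.hSG Lc.hST]
      exact hχτ
    · rw [mult_transfer Lc.inertia D.hHG D.hLH hτθ hχτ hξθ hψξ]
      exact hτo

end CfsgLib.OddCorrespondence
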